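/- Groups with the same 2-fusion: the abstract layer. -/
import Cfsg.Prelude.Def_FusionSystem
import Cfsg.Agent.PLOC.Alperin

set_option autoImplicit false

namespace CL.Ln

open Subgroup

variable {T T' G G' G'' : Type*} [Group T] [Group T'] [Group G] [Group G'] [Group G'']

/-- `f` is an isomorphism onto a Sylow 2-subgroup -/
def Emb (f : T →* G) : Prop := Function.Injective f ∧ ∃ P : Sylow 2 G, (P : Subgroup G) = f.range

/-- the pairs of `R` are simultaneously conjugate -/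
def Fu (f : T →* G) (R : Set (T × T)) : Prop := ∃ g : G, ∀ p ∈ R, f p.2 = g * f p.1 * g⁻¹

/-- two Sylow embeddings with the same fusion -/
def Sim (f : T →* G) (f' : T →* G') : Prop := Emb f ∧ Emb f' ∧ ∀ R, Fu f R ↔ Fu f' R

/-- the same 2-fusion system -/
def Eqv (G G' : Type*) [Group G] [Group G'] : Prop :=
  ∃ (S : Sylow 2 G) (f : S →* G'), Sim (S : Subgroup G).subtype f

theorem emb_subtype (S : Sylow 2 G) : Emb (S : Subgroup G).subtype :=
  ⟨Subtype.val_injective, S, (range_subtype _).symm⟩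

theorem Sim.symm {f : T →* G} {f' : T →* G'} (h : Sim f f') : Sim f' f := ⟨h.2.1, h.1, fun R => (h.2.2 R).symm⟩

theorem Sim.trans {f : T →* G} {f' : T →* G'} {f'' : T →* G''} (h : Sim f f') (h' : Sim f' f'') : Sim f f'' :=
  ⟨h.1, h'.2.1, fun R => (h.2.2 R).trans (h'.2.2 R)⟩

theorem Emb.comp {f : T →* G} (h : Emb f) (e : T' ≃* T) : Emb (f.comp e.toMonoidHom) :=
  ⟨h.1.comp e.injective, h.2.imp fun _ k => by
    rw [k, MonoidHom.range_comp, (MonoidHom.range_eq_top (f := e.toMonoidHom)).2 e.surjective, ← MonoidHom.range_eq_map]⟩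

theorem fu_comp (f : T →* G) (e : T' →* T) (R : Set (T' × T')) : Fu (f.comp e) R ↔ Fu f (Prod.map e e '' R) :=
  exists_congr fun _ => ⟨by rintro h _ ⟨p, hp, rfl⟩; exact h p hp, fun h p hp => h _ ⟨p, hp, rfl⟩⟩

theorem Sim.comp {f : T →* G} {f' : T →* G'} (h : Sim f f') (e : T' ≃* T) :
    Sim (f.comp e.toMonoidHom) (f'.comp e.toMonoidHom) :=
  ⟨h.1.comp e, h.2.1.comp e, fun R => by rw [fu_comp, fu_comp, h.2.2]⟩

theorem Emb.map {f : T →* G} (h : Emb f) (e : G ≃* G') : Emb (e.toMonoidHom.comp f) := by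
  obtain ⟨h, P, k⟩ := h
  refine ⟨e.injective.comp h, ⟨(P : Subgroup G).map e.toMonoidHom, P.2.map _, fun {Q} hQ hle => ?_⟩, ?_⟩
  · have := P.3 (hQ.map e.symm.toMonoidHom) (fun x hx => ⟨e x, hle ⟨x, hx, rfl⟩, e.symm_apply_apply x⟩)
    refine le_antisymm (fun y hy => ⟨e.symm y, this ▸ ⟨y, hy, rfl⟩, e.apply_symm_apply y⟩) hle
  · rw [MonoidHom.range_comp, ← k]

theorem Emb.sim_map {f : T →* G} (h : Emb f) (e : G ≃* G') : Sim f (e.toMonoidHom.comp f) :=
  ⟨h, h.map e, fun _ => ⟨fun ⟨g, k⟩ => ⟨e g, fun p hp => by simp [k p hp]⟩,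
    fun ⟨g, k⟩ => ⟨e.symm g, fun p hp => e.injective (by simpa using k p hp)⟩⟩⟩

theorem Emb.exists_equiv [Finite G] {f : T →* G} {f' : T' →* G} (h : Emb f) (h' : Emb f') :
    ∃ e : T' ≃* T, Sim (f.comp e.toMonoidHom) f' := by
  have : Fact (Nat.Prime 2) := ⟨Nat.prime_two⟩
  obtain ⟨P, k⟩ := h.2
  obtain ⟨P', k'⟩ := h'.2
  obtain ⟨g, rfl⟩ := MulAction.exists_smul_eq G P' P
  have e : ((MulAut.conj g).toMonoidHom.comp f').range = f.range := by
    rw [MonoidHom.range_comp, ← k, ← k']; rfl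
  let σ : T' ≃* T := (MonoidHom.ofInjective (h'.map (MulAut.conj g)).1).trans
    ((MulEquiv.subgroupCongr e).trans (MonoidHom.ofInjective h.1).symm)
  have : f.comp σ.toMonoidHom = (MulAut.conj g).toMonoidHom.comp f' := MonoidHom.ext fun t =>
    MonoidHom.apply_ofInjective_symm h.1 _
  exact ⟨σ, this ▸ (h'.sim_map (MulAut.conj g)).symm⟩

theorem Eqv.elim [Finite G] (h : Eqv G G') {f : T →* G} (hf : Emb f) : ∃ f' : T →* G', Sim f f' := by
  obtain ⟨S, φ, k⟩ := h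
  obtain ⟨e, l⟩ := k.1.exists_equiv hf
  exact ⟨_, l.symm.trans (k.comp e)⟩

theorem Sim.eqv [Finite G] {f : T →* G} {f' : T →* G'} (h : Sim f f') : Eqv G G' := by
  obtain ⟨S⟩ : Nonempty (Sylow 2 G) := inferInstance
  obtain ⟨e, l⟩ := h.1.exists_equiv (emb_subtype S)
  exact ⟨S, _, l.symm.trans (h.comp e)⟩

theorem Eqv.symm [Finite G'] (h : Eqv G G') : Eqv G' G := let ⟨_, _, k⟩ := h; k.symm.eqv

theorem Eqv.trans [Finite G'] (h : Eqv G G') (h' : Eqv G' G'') : Eqv G G'' :=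
  let ⟨S, _, k⟩ := h; let ⟨φ, l⟩ := h'.elim k.2.1; ⟨S, φ, k.trans l⟩

theorem eqv_of_equiv (e : G ≃* G') : Eqv G G' :=
  let ⟨S⟩ : Nonempty (Sylow 2 G) := inferInstance; ⟨S, _, (emb_subtype S).sim_map e⟩

theorem Emb.card [Finite G] {f : T →* G} (h : Emb f) : Nat.card T = 2 ^ (Nat.card G).factorization 2 := by
  have : Fact (Nat.Prime 2) := ⟨Nat.prime_two⟩
  obtain ⟨P, k⟩ := h.2
  rw [Nat.card_congr (MonoidHom.ofInjective h.1).toEquiv, ← k, P.card_eq_multiplicity]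

theorem Emb.isPGroup {f : T →* G} (h : Emb f) : IsPGroup 2 T :=
  let ⟨P, k⟩ := h.2; (k ▸ P.2 : IsPGroup 2 f.range).of_equiv (MonoidHom.ofInjective h.1).symm

theorem emb_of_card [Finite G] {f : T →* G} (h : Function.Injective f)
    (c : Nat.card T = 2 ^ (Nat.card G).factorization 2) : Emb f :=
  have : Fact (Nat.Prime 2) := ⟨Nat.prime_two⟩
  ⟨h, Sylow.ofCard f.range (by rw [← c, Nat.card_congr (MonoidHom.ofInjective h).toEquiv]), rfl⟩

theorem Eqv.val [Finite G] [Finite G'] (h : Eqv G G') :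
    (Nat.card G).factorization 2 = (Nat.card G').factorization 2 :=
  let ⟨_, _, k⟩ := h; Nat.pow_right_injective le_rfl (k.1.card.symm.trans k.2.1.card)

theorem Eqv.syl [Finite G] [Finite G'] (h : Eqv G G') (S : Sylow 2 G) (S' : Sylow 2 G') :
    Nonempty ((S : Subgroup G) ≃* (S' : Subgroup G')) :=
  let ⟨_, k⟩ := h.elim (emb_subtype S); let ⟨e, _⟩ := (emb_subtype S').exists_equiv k.2.1; ⟨e⟩

/-- a 2-subgroup can be moved into the image -/
theorem Emb.exists_conj [Finite G] {f : T →* G} (h : Emb f) {Q : Subgroup G} (hQ : IsPGroup 2 Q) :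
    ∃ g : G, ∀ x ∈ Q, ∃ t, f t = g * x * g⁻¹ := by
  have : Fact (Nat.Prime 2) := ⟨Nat.prime_two⟩
  obtain ⟨P, k⟩ := h.2
  obtain ⟨P', l⟩ := hQ.exists_le_sylow
  obtain ⟨g, rfl⟩ := MulAction.exists_smul_eq G P' P
  exact ⟨g, fun x hx => show _ ∈ f.range from k ▸ ⟨x, l hx, rfl⟩⟩

theorem realized_iff (S : Sylow 2 G) (ι : S →* G') :
    ((Cfsg.groupFusionSystem (S : Subgroup G)).IsRealizedBy ι ∧ ∃ P : Sylow 2 G', (P : Subgroup G') = ι.range) ↔
      Sim (S : Subgroup G).subtype ι := by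
  refine ⟨fun ⟨⟨hi, h⟩, k⟩ => ⟨emb_subtype S, ⟨hi, k⟩, fun R => ⟨fun ⟨g, hg⟩ => ?_, fun ⟨g, hg⟩ => ?_⟩⟩,
    fun ⟨_, h, k⟩ => ⟨⟨h.1, fun P hP φ hφ => ?_⟩, h.2⟩⟩
  · let φ : G →* G := (MulAut.conj g).toMonoidHom
    let P : Subgroup G := S ⊓ (S : Subgroup G).comap φ
    obtain ⟨x, hx⟩ := (h P inf_le_left (φ.comp P.subtype) fun x => x.2.2).1 ⟨inf_le_left, fun x => x.2.2, g, fun _ => rfl⟩
    refine ⟨x, fun p hp => ?_⟩
    have e : φ p.1 = p.2 := (hg p hp).symm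
    simpa only [MonoidHom.comp_apply, coe_subtype, e] using hx ⟨p.1, p.1.2, show φ p.1 ∈ S from e ▸ p.2.2⟩
  · let Q : Subgroup S := ι.range.comap ((MulAut.conj g).toMonoidHom.comp ι)
    let ψ : Q →* S := (MonoidHom.ofInjective hi).symm.toMonoidHom.comp
      ((((MulAut.conj g).toMonoidHom.comp ι).comp Q.subtype).codRestrict _ fun x => x.2)
    have hψ : ∀ x : Q, ι (ψ x) = g * ι x * g⁻¹ := fun x => MonoidHom.apply_ofInjective_symm hi _
    let P : Subgroup G := Q.map (S : Subgroup G).subtype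
    let e : Q ≃* P := Q.equivMapOfInjective _ Subtype.val_injective
    have he : ∀ x : P, ((e.symm x : S) : G) = x := fun x => congrArg Subtype.val (e.apply_symm_apply x)
    have hP : P ≤ S := map_subtype_le _
    obtain ⟨-, -, x, hx⟩ := (h P hP ((S : Subgroup G).subtype.comp (ψ.comp e.symm.toMonoidHom)) fun x => (ψ _).2).2
      ⟨g, fun x => (hψ _).trans (by rw [show ((e.symm.toMonoidHom x : Q) : S) = ⟨x, hP x.2⟩ from Subtype.ext (he x)])⟩
    refine ⟨x, fun p hp => ?_⟩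
    have m : p.1 ∈ Q := ⟨p.2, hg p hp⟩
    have := hx (e ⟨p.1, m⟩)
    rwa [MonoidHom.comp_apply, MonoidHom.comp_apply, MulEquiv.coe_toMonoidHom, e.symm_apply_apply,
      hi ((hψ ⟨p.1, m⟩).trans (hg p hp).symm)] at this
  · have := k (Set.range fun x : P => (⟨x, hP x.2⟩, ⟨φ x, hφ x⟩))
    simp only [Fu, Set.forall_mem_range] at this
    exact ⟨fun h => this.1 h.2.2, fun h => ⟨hP, hφ, this.2 h⟩⟩

theorem eqv_iff [Finite G] (S : Sylow 2 G) :
    (∃ ι : S →* G', (Cfsg.groupFusionSystem (S : Subgroup G)).IsRealizedBy ι ∧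
      ∃ P : Sylow 2 G', (P : Subgroup G') = ι.range) ↔ Eqv G G' := by
  simp only [realized_iff]
  exact ⟨fun ⟨ι, h⟩ => ⟨S, ι, h⟩, fun h => h.elim (emb_subtype S)⟩

/-- a central 2-element lies in the image -/
theorem Emb.mem_range [Finite G] {f : T →* G} (h : Emb f) {z : G} (c : z ∈ center G) {k : ℕ} (e : z ^ 2 ^ k = 1) :
    z ∈ f.range := by
  obtain ⟨g, l⟩ := h.exists_conj (Q := zpowers z) (by
    rintro ⟨_, i, rfl⟩
    exact ⟨k, Subtype.ext (by
      change (z ^ i) ^ 2 ^ k = 1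
      rw [← zpow_natCast, ← zpow_mul, mul_comm, zpow_mul, zpow_natCast, e, one_zpow])⟩)
  obtain ⟨t, e⟩ := l z (mem_zpowers z)
  exact ⟨t, by rw [e, mem_center_iff.1 c, mul_inv_cancel_right]⟩

theorem fu_quot [Finite G] {H H' U : Type*} [Group H] [Group H'] [Group U] {f : T →* G} {f' : T →* G'} (h : Sim f f')
    {π : G →* H} {π' : G' →* H'} (s : Function.Surjective π) (c : π.ker ≤ center G) {ρ : T →* U}
    (hρ : Function.Surjective ρ) {φ : U →* H} {φ' : U →* H'} (e : ∀ t, φ (ρ t) = π (f t))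
    (e' : ∀ t, φ' (ρ t) = π' (f' t)) (m : ∀ t, π (f t) = 1 → π' (f' t) = 1) {R : Set (U × U)} (k : Fu φ R) :
    Fu φ' R := by
  obtain ⟨g, k⟩ := k
  obtain ⟨g, rfl⟩ := s g
  obtain ⟨x, l⟩ := (h.2.2 {p | f p.2 = g * f p.1 * g⁻¹}).1 ⟨g, fun _ h => h⟩
  refine ⟨π' x, fun p hp => ?_⟩
  obtain ⟨a, ha⟩ := hρ p.1
  obtain ⟨b, hb⟩ := hρ p.2
  have z : (f b)⁻¹ * (g * f a * g⁻¹) ∈ π.ker := by
    have := k p hp
    rw [← ha, ← hb, e, e] at this
    simp only [MonoidHom.mem_ker, map_mul, map_inv, this, inv_mul_cancel]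
  obtain ⟨i, hi⟩ := h.1.isPGroup a
  obtain ⟨j, hj⟩ := h.1.isPGroup b
  obtain ⟨t, ht⟩ := h.1.mem_range (c z) (k := i + j) (by
    have : Commute (f b)⁻¹ (g * f a * g⁻¹) := by
      have := mem_center_iff.1 (c z) (f b)⁻¹
      rw [← mul_assoc] at this
      exact mul_left_cancel (a := (f b)⁻¹) (by rw [← mul_assoc, this, mul_assoc])
    rw [this.mul_pow, conj_pow, inv_pow, ← map_pow, ← map_pow, pow_add, pow_mul a, pow_mul' b, hi, hj]
    simp)
  have := l (a, b * t) (by change f (b * t) = _; rw [map_mul, ht, mul_inv_cancel_left])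
  rw [← ha, ← hb, e', e', ← map_inv, ← map_mul, ← map_mul, ← this, map_mul, map_mul, m t (ht ▸ z), mul_one]

theorem emb_quot [Finite G] {H U : Type*} [Group H] [Group U] {f : T →* G} (h : Emb f) {π : G →* H}
    (s : Function.Surjective π) {ρ : T →* U} (hρ : Function.Surjective ρ) {φ : U →* H} (e : ∀ t, φ (ρ t) = π (f t))
    (hφ : Function.Injective φ) : Emb φ := by
  have : Fact (Nat.Prime 2) := ⟨Nat.prime_two⟩
  obtain ⟨P, k⟩ := h.2
  refine ⟨hφ, P.mapSurjective s, ?_⟩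
  rw [Sylow.coe_mapSurjective, k]
  ext x
  exact ⟨by rintro ⟨_, ⟨t, rfl⟩, rfl⟩; exact ⟨_, e t⟩, by
    rintro ⟨u, rfl⟩; obtain ⟨t, rfl⟩ := hρ u; exact ⟨_, ⟨t, rfl⟩, (e t).symm⟩⟩

/-- central quotients -/
theorem Sim.quot [Finite G] [Finite G'] {H H' : Type*} [Group H] [Group H'] {f : T →* G} {f' : T →* G'} (h : Sim f f')
    {π : G →* H} {π' : G' →* H'} (s : Function.Surjective π) (s' : Function.Surjective π') (c : π.ker ≤ center G)
    (c' : π'.ker ≤ center G') (m : ∀ t, π (f t) = 1 ↔ π' (f' t) = 1) : Eqv H H' := by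
  have := Finite.of_surjective π s
  have k : (π.comp f).ker = (π'.comp f').ker := Subgroup.ext m
  have hρ := QuotientGroup.mk'_surjective (π.comp f).ker
  let φ' : T ⧸ (π.comp f).ker →* H' := QuotientGroup.lift _ (π'.comp f') k.le
  exact Sim.eqv (f := QuotientGroup.kerLift (π.comp f)) (f' := φ')
    ⟨emb_quot h.1 s hρ (fun _ => rfl) (QuotientGroup.kerLift_injective _),
      emb_quot h.2.1 s' hρ (fun _ => rfl) ((QuotientGroup.injective_lift_iff _ _ _).2 k),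
      fun _ => ⟨fu_quot h s c hρ (fun _ => rfl) (fun _ => rfl) fun t => (m t).1,
        fu_quot h.symm s' c' hρ (fun _ => rfl) (fun _ => rfl) fun t => (m t).2⟩⟩

end CL.Ln
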