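/- Fusion in a normal subgroup containing the elements of odd order up to the centralizer of the Sylow subgroup. -/
import Cfsg.Agent.FUS.Ln.Eqv

set_option autoImplicit false

namespace CL.Ln

open Subgroup

variable {T U G G' N N' : Type*} [Group T] [Group U] [Group G] [Group G'] [Group N] [Group N']

theorem eq_top_of_odd [Finite G] {H : Subgroup G} (h : ¬ 2 ∣ H.index) (o : ∀ x, Odd (orderOf x) → x ∈ H) : H = ⊤ := by
  have : Fact (Nat.Prime 2) := ⟨Nat.prime_two⟩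
  have k : IsPGroup 2 (G ⧸ H.normalCore) := fun x => by
    obtain ⟨x, rfl⟩ := QuotientGroup.mk_surjective x
    obtain ⟨a, m, hm, e⟩ := Nat.exists_eq_two_pow_mul_odd (orderOf_pos x).ne'
    refine ⟨a, by
      rw [← QuotientGroup.mk_pow, QuotientGroup.eq_one_iff]
      refine fun g => o _ (hm.of_dvd_nat (orderOf_dvd_of_pow_eq_one ?_))
      rw [conj_pow, ← pow_mul, ← e, pow_orderOf_eq_one, mul_one, mul_inv_cancel]⟩
  obtain ⟨n, hn⟩ := k.exists_card_eq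
  obtain ⟨i, -, e⟩ := (Nat.dvd_prime_pow Nat.prime_two).1 ((index_dvd_of_le H.normalCore_le).trans (dvd_of_eq hn))
  rcases i with _ | i
  · exact index_eq_one.1 e
  · exact (h (e ▸ dvd_pow_self 2 i.succ_ne_zero)).elim

theorem exists_odd_pow [Finite G'] (y : G') {k : ℕ} (o : Odd k) : ∃ e, e ≡ 1 [MOD k] ∧ Odd (orderOf (y ^ e)) := by
  obtain ⟨a, m, hm, e⟩ := Nat.exists_eq_two_pow_mul_odd (orderOf_pos y).ne'
  obtain ⟨c, h1, h2⟩ := Nat.chineseRemainder (Nat.Coprime.pow_right a (Nat.coprime_two_right.2 o)) 1 0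
  obtain ⟨d, rfl⟩ := (Nat.modEq_zero_iff_dvd).1 h2
  refine ⟨_, h1, hm.of_dvd_nat (orderOf_dvd_of_pow_eq_one ?_)⟩
  rw [← pow_mul, mul_right_comm, ← e, pow_mul, pow_orderOf_eq_one, one_pow]

theorem fu_normal [Finite N] [Finite G'] {f : T →* G} {f' : T →* G'} (h : ∀ R, Fu f R → Fu f' R) {i : U →* T}
    {φ : U →* N} {φ' : U →* N'} {j : N →* G} {j' : N' →* G'} (hj : Function.Injective j') (hφ : Emb φ)
    (e : ∀ u, j (φ u) = f (i u)) (e' : ∀ u, j' (φ' u) = f' (i u))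
    (o : ∀ g : G', Odd (orderOf g) → ∃ c, (∀ t, c * f' t = f' t * c) ∧ g * c ∈ j'.range) {R : Set (U × U)}
    (k : Fu φ R) : Fu φ' R := by
  have : Fact (Nat.Prime 2) := ⟨Nat.prime_two⟩
  obtain ⟨hi, P, hP⟩ := hφ
  obtain ⟨g, k⟩ := k
  let Q : Subgroup N → N → Prop := fun A g => (∀ a ∈ A, a ∈ φ.range ∧ g * a * g⁻¹ ∈ φ.range) ∧
    ∃ y, ∀ s t, φ s ∈ A → φ t = g * φ s * g⁻¹ → φ' t = y * φ' s * y⁻¹
  have mul : ∀ A g h, Q A g → Q (A.map (MulAut.conj g).toMonoidHom) h → Q A (h * g) := by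
    rintro A g h ⟨h1, y, h2⟩ ⟨h3, z, h4⟩
    refine ⟨fun a ha => ⟨(h1 a ha).1, ?_⟩, z * y, fun s t hs ht => ?_⟩
    · simpa [mul_assoc] using (h3 _ ⟨a, ha, rfl⟩).2
    · obtain ⟨u, hu⟩ := (h1 _ hs).2
      rw [h4 u t ⟨_, hs, hu.symm⟩ (by rw [ht, hu]; group), h2 s u hs hu]
      group
  have inv : ∀ A g, Q A g → Q (A.map (MulAut.conj g).toMonoidHom) g⁻¹ := by
    rintro A g ⟨h1, y, h2⟩
    refine ⟨?_, y⁻¹, ?_⟩
    · rintro _ ⟨a, ha, rfl⟩
      exact ⟨(h1 a ha).2, by simpa [mul_assoc] using (h1 a ha).1⟩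
    · rintro s t ⟨a, ha, hs⟩ ht
      have : φ t = a := by rw [ht, ← hs]; simp [mul_assoc]
      rw [h2 t s (this ▸ ha) (this ▸ hs.symm)]
      group
  have inn : ∀ A u, A ≤ φ.range → Q A (φ u) := fun A u hA =>
    ⟨fun a ha => ⟨hA ha, mul_mem (mul_mem ⟨u, rfl⟩ (hA ha)) (inv_mem ⟨u, rfl⟩)⟩, φ' u, fun s t _ ht => by
      rw [← map_inv, ← map_mul, ← map_mul] at ht ⊢; rw [hi ht]⟩
  have := CL.Tr.alperin_induction_subgroup P Q (fun A hA => by simpa using inn A 1 (hP ▸ hA))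
    (fun A B g hAB ⟨h1, y, h2⟩ => ⟨fun a ha => h1 a (hAB ha), y, fun s t hs => h2 s t (hAB hs)⟩) mul inv
    (fun E hE hs M hM _ => ?_) ((P : Subgroup N) ⊓ (P : Subgroup N).comap (MulAut.conj g).toMonoidHom) g inf_le_left
    fun _ ha => ha.2
  · obtain ⟨-, y, hy⟩ := this
    exact ⟨y, fun p hp => hy _ _ ⟨hP ▸ ⟨_, rfl⟩, show g * φ p.1 * g⁻¹ ∈ (P : Subgroup N) from hP ▸ ⟨_, k p hp⟩⟩ (k p hp)⟩
  rw [hP] at hE hs
  refine subgroupOf_eq_top.1 (eq_top_of_odd (fun d => hs (d.trans (relIndex_dvd_of_le_left _ ?_))) fun x ox => ?_)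
  · rintro _ ⟨⟨u, rfl⟩, hu⟩
    exact hM _ hu (inn E u hE)
  obtain ⟨x, hx⟩ := x
  have nx : ∀ a ∈ E, x * a * x⁻¹ ∈ E := fun a => (mem_normalizer_iff.1 hx a).1
  refine hM x hx ⟨fun a ha => ⟨hE ha, hE (nx a ha)⟩, ?_⟩
  obtain ⟨y, hy⟩ := h (Prod.map i i '' {p | φ p.1 ∈ E ∧ φ p.2 = x * φ p.1 * x⁻¹}) ⟨j x, by
    rintro _ ⟨p, hp, rfl⟩
    change f (i p.2) = j x * f (i p.1) * (j x)⁻¹
    rw [← e, ← e, hp.2, map_mul, map_mul, map_inv]⟩
  have pw : ∀ (m : ℕ) s t, φ s ∈ E → φ t = x ^ m * φ s * (x ^ m)⁻¹ → f' (i t) = y ^ m * f' (i s) * (y ^ m)⁻¹ := by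
    intro m
    induction m with
    | zero => intro s t _ ht; rw [hi (by simpa using ht : φ t = φ s)]; simp
    | succ m ih =>
      intro s t hs ht
      obtain ⟨u, hu⟩ := hE (nx _ hs)
      rw [ih u t (hu ▸ nx _ hs) (by rw [ht, hu, pow_succ]; group), hy (i s, i u) ⟨(s, u), ⟨hs, hu⟩, rfl⟩, pow_succ]
      group
  obtain ⟨m, h1, h2⟩ := exists_odd_pow y ox
  obtain ⟨c, hc, n, hn⟩ := o _ h2
  rw [← orderOf_coe, ← pow_eq_pow_iff_modEq, pow_one] at h1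
  refine ⟨n, fun s t hs ht => hj ?_⟩
  rw [map_mul, map_mul, map_inv, e', e', hn, pw m s t hs (by rw [h1, ht]), mul_assoc _ c, hc]
  group

theorem emb_normal [Finite G] {f : T →* G} (h : Emb f) (N : Subgroup G) [N.Normal] {i : U →* T} (hi : Function.Injective i)
    {φ : U →* N} (e : ∀ u, (φ u : G) = f (i u)) (s : ∀ t, f t ∈ N → t ∈ i.range) : Emb φ := by
  have : Fact (Nat.Prime 2) := ⟨Nat.prime_two⟩
  have k : Function.Injective φ := fun a b k => hi (h.1 (by rw [← e, ← e, k]))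
  obtain ⟨S⟩ : Nonempty (Sylow 2 N) := inferInstance
  obtain ⟨g, l⟩ := h.exists_conj (S.2.map N.subtype)
  let S' : Sylow 2 N := (MulAut.conjNormal g : MulAut N) • S
  refine ⟨k, S', (S'.3 ((h.isPGroup.of_injective i hi).of_equiv (MonoidHom.ofInjective k)) ?_).symm⟩
  rintro _ ⟨x, hx, rfl⟩
  obtain ⟨t, ht⟩ := l _ ⟨x, hx, rfl⟩
  obtain ⟨u, rfl⟩ := s t (ht ▸ ‹N.Normal›.conj_mem _ x.2 g)
  exact ⟨u, Subtype.ext ((e u).trans ht)⟩

/-- normal subgroups -/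
theorem Sim.normal [Finite G] [Finite G'] {f : T →* G} {f' : T →* G'} (h : Sim f f') (N : Subgroup G) [N.Normal]
    (N' : Subgroup G') [N'.Normal] (m : ∀ t, f t ∈ N ↔ f' t ∈ N')
    (o : ∀ g : G, Odd (orderOf g) → ∃ c, (∀ t, c * f t = f t * c) ∧ g * c ∈ N)
    (o' : ∀ g : G', Odd (orderOf g) → ∃ c, (∀ t, c * f' t = f' t * c) ∧ g * c ∈ N') :
    ∃ (φ : N.comap f →* N) (φ' : N.comap f →* N'), Sim φ φ' ∧ (∀ u, (φ u : G) = f u) ∧ ∀ u, (φ' u : G') = f' u := by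
  let φ : N.comap f →* N := (f.comp (N.comap f).subtype).codRestrict _ fun u => u.2
  let φ' : N.comap f →* N' := (f'.comp (N.comap f).subtype).codRestrict _ fun u => (m _).1 u.2
  have k : Emb φ := emb_normal h.1 N Subtype.val_injective (fun _ => rfl) fun t ht => ⟨⟨t, ht⟩, rfl⟩
  have k' : Emb φ' := emb_normal h.2.1 N' Subtype.val_injective (fun _ => rfl) fun t ht => ⟨⟨t, (m t).2 ht⟩, rfl⟩
  exact ⟨φ, φ', ⟨k, k', fun _ =>
    ⟨fu_normal (j := N.subtype) (fun R => (h.2.2 R).1) N'.subtype_injective k (fun _ => rfl) (fun _ => rfl)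
      (by simpa using o'),
    fu_normal (j := N'.subtype) (fun R => (h.2.2 R).2) N.subtype_injective k' (fun _ => rfl) (fun _ => rfl)
      (by simpa using o)⟩⟩, fun _ => rfl, fun _ => rfl⟩

end CL.Ln
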