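/- Matching 2-parts of `q - 1` and `q + 1`. -/
import Cfsg.Agent.FUS.Ln.Eqv
import Mathlib.NumberTheory.LSeries.PrimesInAP
import Mathlib.NumberTheory.Multiplicity

set_option autoImplicit false

namespace CL.Ln

/-- the projective special linear group -/
abbrev PL (n : ℕ) (F : Type*) [Field F] : Type _ := Matrix.ProjectiveSpecialLinearGroup (Fin n) F

/-- the same 2-parts -/
def Mt (q q' : ℕ) : Prop :=
  padicValNat 2 (q' - 1) = padicValNat 2 (q - 1) ∧ padicValNat 2 (q' + 1) = padicValNat 2 (q + 1)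

/-- the exchanged 2-parts -/
def Ms (q q' : ℕ) : Prop :=
  padicValNat 2 (q' + 1) = padicValNat 2 (q - 1) ∧ padicValNat 2 (q' - 1) = padicValNat 2 (q + 1)

variable {q q' r : ℕ}

theorem Mt.symm (h : Mt q q') : Mt q' q := ⟨h.1.symm, h.2.symm⟩
theorem Ms.symm (h : Ms q q') : Ms q' q := ⟨h.2.symm, h.1.symm⟩
theorem Mt.ms (h : Mt q q') (k : Ms q' r) : Ms q r := ⟨k.1.trans h.1, k.2.trans h.2⟩
theorem Ms.ms (h : Ms q q') (k : Ms q' r) : Mt q r := ⟨k.2.trans h.1, k.1.trans h.2⟩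

theorem val_sq (h : 1 < q) : padicValNat 2 (q ^ 2 - 1) = padicValNat 2 (q - 1) + padicValNat 2 (q + 1) := by
  rw [show q ^ 2 - 1 = (q - 1) * (q + 1) by rw [mul_comm, ← Nat.sq_sub_sq, one_pow],
    padicValNat.mul (by omega) (by omega)]

theorem val_one {x : ℕ} (h : x % 4 = 2) : padicValNat 2 x = 1 := by
  have h1 := (padicValNat_dvd_iff_le (p := 2) (n := 1) (a := x) (by omega)).1 (by omega)
  have h2 := mt (padicValNat_dvd_iff_le (p := 2) (n := 2) (a := x) (by omega)).2 (by omega)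
  omega

theorem two_le_val {x : ℕ} (h0 : x ≠ 0) (h : x % 4 = 0) : 2 ≤ padicValNat 2 x :=
  (padicValNat_dvd_iff_le (p := 2) (n := 2) h0).1 (by omega)

theorem val_cases (o : Odd q) (h : 1 < q) :
    (q % 4 = 1 ∧ 2 ≤ padicValNat 2 (q - 1) ∧ padicValNat 2 (q + 1) = 1) ∨
      (q % 4 = 3 ∧ padicValNat 2 (q - 1) = 1 ∧ 2 ≤ padicValNat 2 (q + 1)) := by
  have := Nat.odd_iff.1 o
  rcases (by omega : q % 4 = 1 ∨ q % 4 = 3) with e | e
  exacts [.inl ⟨e, two_le_val (by omega) (by omega), val_one (by omega)⟩,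
    .inr ⟨e, val_one (by omega), two_le_val (by omega) (by omega)⟩]

theorem dvd_of_val {x y : ℕ} (hx : x ≠ 0) (hy : y ≠ 0) (h : padicValNat 2 x = padicValNat 2 y) :
    (2 : ℤ) ^ (padicValNat 2 x + 1) ∣ x - y ∧ (2 : ℤ) ^ (padicValNat 2 x + 1) ∣ x + y := by
  obtain ⟨a, ha⟩ := pow_padicValNat_dvd (p := 2) (n := x)
  obtain ⟨b, hb⟩ := pow_padicValNat_dvd (p := 2) (n := y)
  have oa : ¬ 2 ∣ a := fun ⟨c, e⟩ => pow_succ_padicValNat_not_dvd (p := 2) hx ⟨c, by rw [pow_succ, mul_assoc, ← e, ← ha]⟩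
  have ob : ¬ 2 ∣ b := fun ⟨c, e⟩ => pow_succ_padicValNat_not_dvd (p := 2) hy ⟨c, by rw [pow_succ, mul_assoc, ← e, ← hb]⟩
  rw [← h] at hb
  generalize padicValNat 2 x = v at ha hb
  subst ha hb
  push_cast
  rw [pow_succ, ← mul_sub, ← mul_add]
  exact ⟨mul_dvd_mul_left _ (by omega), mul_dvd_mul_left _ (by omega)⟩

theorem Mt.dvd (m : Mt q q') (o : Odd q) (h : 1 < q) (h' : 1 < q') :
    padicValNat 2 (q' ^ 2 - 1) = padicValNat 2 (q ^ 2 - 1) ∧ (2 : ℤ) ^ padicValNat 2 (q ^ 2 - 1) ∣ q - q' := by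
  rw [val_sq h, val_sq h', m.1, m.2]
  refine ⟨rfl, ?_⟩
  rcases val_cases o h with ⟨-, -, e⟩ | ⟨-, e, -⟩ <;> rw [e]
  · have := (dvd_of_val (by omega) (by omega) m.1.symm).1
    rwa [Nat.cast_pred (by omega), Nat.cast_pred (by omega), sub_sub_sub_cancel_right] at this
  · have := (dvd_of_val (by omega) (by omega) m.2.symm).1
    rwa [Nat.cast_succ, Nat.cast_succ, add_sub_add_right_eq_sub, add_comm] at this

theorem Ms.dvd (m : Ms q q') (o : Odd q) (h : 1 < q) (h' : 1 < q') :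
    padicValNat 2 (q' ^ 2 - 1) = padicValNat 2 (q ^ 2 - 1) ∧ (2 : ℤ) ^ padicValNat 2 (q ^ 2 - 1) ∣ q - -q' := by
  rw [val_sq h, val_sq h', m.1, m.2, sub_neg_eq_add]
  refine ⟨add_comm _ _, ?_⟩
  rcases val_cases o h with ⟨-, -, e⟩ | ⟨-, e, -⟩ <;> rw [e]
  · have := (dvd_of_val (by omega) (by omega) m.1.symm).2
    rwa [Nat.cast_pred (by omega), Nat.cast_succ, show (q : ℤ) - 1 + (q' + 1) = q + q' by ring] at this
  · have := (dvd_of_val (by omega) (by omega) m.2.symm).2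
    rwa [Nat.cast_pred (by omega), Nat.cast_succ, show (q : ℤ) + 1 + (q' - 1) = q + q' by ring, add_comm] at this

theorem val_eq_of_dvd {x y : ℕ} (hx : x ≠ 0) (hy : y ≠ 0) (h : 2 ^ (padicValNat 2 x + 1) ∣ x + y) :
    padicValNat 2 y = padicValNat 2 x := by
  have h1 : 2 ^ padicValNat 2 x ∣ y :=
    (Nat.dvd_add_right pow_padicValNat_dvd).1 ((pow_dvd_pow 2 (Nat.le_succ _)).trans h)
  have h2 : ¬ 2 ^ (padicValNat 2 x + 1) ∣ y := fun k =>
    pow_succ_padicValNat_not_dvd (p := 2) hx ((Nat.dvd_add_left k).1 h)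
  rw [padicValNat_dvd_iff_le hy] at h1 h2
  omega

theorem exists_prime_ms (o : Odd q) (h : 1 < q) : ∃ p, p.Prime ∧ Odd p ∧ 3 < p ∧ Ms p q := by
  let N := 2 ^ (padicValNat 2 (q - 1) + padicValNat 2 (q + 1) + 1)
  have : NeZero N := ⟨by positivity⟩
  have u : IsUnit (-(q : ZMod N)) :=
    ((ZMod.isUnit_iff_coprime q N).2 (Nat.Coprime.pow_right _ (Nat.coprime_two_right.2 o))).neg
  obtain ⟨p, h3, hp, e⟩ := Nat.forall_exists_prime_gt_and_eq_mod u 3
  have d : N ∣ p + q := (ZMod.natCast_eq_zero_iff _ _).1 (by rw [Nat.cast_add, e, neg_add_cancel])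
  refine ⟨p, hp, hp.odd_of_ne_two (by omega), h3, (val_eq_of_dvd (by omega) (by omega) ?_).symm,
    (val_eq_of_dvd (by omega) (by omega) ?_).symm⟩
  · rw [show q + 1 + (p - 1) = p + q by omega]; exact (pow_dvd_pow 2 (by omega)).trans d
  · rw [show q - 1 + (p + 1) = p + q by omega]; exact (pow_dvd_pow 2 (by omega)).trans d

end CL.Ln
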