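/- The dimension of the space of solutions of a monomial system does not depend on the field. -/
import Cfsg.Agent.FUS.Ln.Eqv

set_option autoImplicit false

namespace CL.Ln

open Module

variable {P Ω A K : Type*} [Group P] [CommGroup A] [Field K]

/-- the solutions -/
def Sp (χ : A →* Kˣ) (a : P →* Equiv.Perm Ω) (c : P → Ω → A) : Submodule K (Ω → K) where
  carrier := {X | ∀ p ω, X (a p ω) = χ (c p ω) * X ω}
  add_mem' := fun h k p ω => by rw [Pi.add_apply, Pi.add_apply, h, k, mul_add]
  zero_mem' := fun _ _ => by simp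
  smul_mem' := fun r _ h p ω => by rw [Pi.smul_apply, Pi.smul_apply, h, smul_eq_mul, smul_eq_mul, mul_left_comm]

/-- the orbits -/
def orb (a : P →* Equiv.Perm Ω) : Setoid Ω where
  r x y := ∃ p, a p x = y
  iseqv := ⟨fun _ => ⟨1, by simp⟩, fun ⟨p, h⟩ => ⟨p⁻¹, by simp [← h]⟩,
    fun ⟨p, h⟩ ⟨q, k⟩ => ⟨q * p, by simp [h, k]⟩⟩

/-- the orbits which carry a solution -/
def Gd (a : P →* Equiv.Perm Ω) (c : P → Ω → A) (O : Quotient (orb a)) : Prop := ∀ p, a p O.out = O.out → c p O.out = 1

theorem finrank_Sp [Finite Ω] {χ : A →* Kˣ} (hχ : Function.Injective χ) (a : P →* Equiv.Perm Ω) {c : P → Ω → A}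
    (hc : ∀ p q ω, c (p * q) ω = c p (a q ω) * c q ω) : finrank K (Sp χ a c) = Nat.card {O // Gd a c O} := by
  classical
  let l : Sp χ a c →ₗ[K] ({O // Gd a c O} → K) := (LinearMap.funLeft K K fun O => O.1.out).comp (Sp χ a c).subtype
  choose s hs using fun ω : Ω => (Quotient.mk_out (s := orb a) ω : ∃ p, a p _ = ω)
  have wd : ∀ {O}, Gd a c O → ∀ p q, a p O.out = a q O.out → c p O.out = c q O.out := fun {O} h p q e => by
    have k : a (q⁻¹ * p) O.out = O.out := by simp [e]
    rw [← mul_inv_cancel_left q p, hc, h _ k, k, mul_one]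
  have eq : ∀ p ω, Quotient.mk (orb a) (a p ω) = Quotient.mk _ ω := fun p ω => (Quotient.sound (s := orb a) (show ∃ q, a q ω = a p ω from ⟨p, rfl⟩)).symm
  have := Fintype.ofFinite {O // Gd a c O}
  rw [(LinearEquiv.ofBijective l ⟨(injective_iff_map_eq_zero l).2 fun X h => Subtype.ext (funext fun ω => ?_),
    fun v => ⟨⟨fun ω => if h : Gd a c (.mk _ ω) then χ (c (s ω) (Quotient.mk (orb a) ω).out) * v ⟨_, h⟩ else 0,
      fun p ω => ?_⟩, funext fun O => ?_⟩⟩).finrank_eq, finrank_pi, Nat.card_eq_fintype_card]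
  · rw [← hs ω, X.2]
    refine mul_eq_zero_of_right _ ?_
    by_cases g : Gd a c (.mk _ ω)
    · exact congrFun h ⟨_, g⟩
    · obtain ⟨p, h1, h2⟩ : ∃ p, a p (Quotient.mk (orb a) ω).out = _ ∧ _ := by simpa [Gd] using g
      have := X.2 p (Quotient.mk (orb a) ω).out
      rw [h1] at this
      by_contra k
      exact h2 (hχ (Units.ext (by simpa using (mul_eq_right₀ k).1 this.symm)))
  · simp only [eq]
    split_ifs with g
    · rw [wd g (s (a p ω)) (p * s ω) (by
        have := hs (a p ω)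
        rw [eq] at this
        rw [this, map_mul, Equiv.Perm.mul_apply, hs]), hc, hs, map_mul, Units.val_mul, mul_assoc]
    · rw [mul_zero]
  · obtain ⟨O, g⟩ := O
    have := hs O.out
    simp only [l, LinearMap.comp_apply, LinearMap.funLeft_apply, Submodule.subtype_apply, Quotient.out_eq] at this ⊢
    rw [dif_pos g, g _ this, map_one, Units.val_one, one_mul]

end CL.Ln
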