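/- Two matrix representations in coprime characteristic are conjugate iff the dimensions of the intertwiner spaces match. -/
import Cfsg.Agent.FUS.Ln.Eqv
import Mathlib.RepresentationTheory.Maschke
import Mathlib.RepresentationTheory.Intertwining
import Mathlib.LinearAlgebra.Matrix.FiniteDimensional

set_option autoImplicit false

namespace CL.Ln

open Module

namespace Semi

universe u

variable (K : Type*) {A : Type*} [Field K] [Ring A] [Algebra K A]

section
variable {V U V' X : Type*} [AddCommGroup V] [Module K V] [Module A V] [IsScalarTower K A V]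
  [AddCommGroup U] [Module K U] [Module A U] [IsScalarTower K A U] [FiniteDimensional K U]
  [AddCommGroup V'] [Module K V'] [Module A V'] [IsScalarTower K A V'] [FiniteDimensional K V']
  [AddCommGroup X] [Module K X] [Module A X] [IsScalarTower K A X] [FiniteDimensional K X]

omit [Module K V] [IsScalarTower K A V] in
theorem addL (e : V ≃ₗ[A] U × V') :
    finrank K (V →ₗ[A] X) = finrank K (U →ₗ[A] X) + finrank K (V' →ₗ[A] X) := by
  rw [(LinearEquiv.congrLeft X K e).finrank_eq, ← (LinearMap.coprodEquiv K).finrank_eq, finrank_prod]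

theorem addR (e : V ≃ₗ[A] U × V') :
    finrank K (X →ₗ[A] V) = finrank K (X →ₗ[A] U) + finrank K (X →ₗ[A] V') := by
  have e' : (X →ₗ[A] V) ≃ₗ[K] (X →ₗ[A] U × V') :=
    { (LinearEquiv.refl A X).arrowCongrAddEquiv e with
      map_smul' := fun c f => LinearMap.ext fun x => e.toLinearMap.map_smul_of_tower c (f x) }
  rw [e'.finrank_eq, ← (LinearMap.prodEquiv K).finrank_eq, finrank_prod]

end

theorem key (N : ℕ) : ∀ (V W : Type u) [AddCommGroup V] [Module K V] [Module A V] [IsScalarTower K A V]
    [FiniteDimensional K V] [IsSemisimpleModule A V] [AddCommGroup W] [Module K W] [Module A W] [IsScalarTower K A W]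
    [FiniteDimensional K W] [IsSemisimpleModule A W], finrank K V + finrank K W < N →
    finrank K (V →ₗ[A] V) + finrank K (W →ₗ[A] W) = finrank K (V →ₗ[A] W) + finrank K (W →ₗ[A] V) →
    Nonempty (V ≃ₗ[A] W) := by
  induction N with
  | zero => intros; omega
  | succ N ih =>
    have step : ∀ (V W : Type u) [AddCommGroup V] [Module K V] [Module A V] [IsScalarTower K A V]
        [FiniteDimensional K V] [IsSemisimpleModule A V] [AddCommGroup W] [Module K W] [Module A W] [IsScalarTower K A W]
        [FiniteDimensional K W] [IsSemisimpleModule A W], finrank K V + finrank K W < N + 1 →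
        finrank K (V →ₗ[A] V) + finrank K (W →ₗ[A] W) = finrank K (V →ₗ[A] W) + finrank K (W →ₗ[A] V) →
        ∀ f : V →ₗ[A] W, f ≠ 0 → Nonempty (V ≃ₗ[A] W) := by
      intro V W _ _ _ _ _ _ _ _ _ _ _ _ hN h f hf
      obtain ⟨C, hC⟩ := exists_isCompl (LinearMap.ker f)
      obtain ⟨W', hW'⟩ := exists_isCompl (LinearMap.range f)
      have fd : ∀ (S : Submodule A V), FiniteDimensional K S := fun S =>
        FiniteDimensional.of_injective (S.subtype.restrictScalars K) Subtype.val_injective
      have fd' : ∀ (S : Submodule A W), FiniteDimensional K S := fun S =>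
        FiniteDimensional.of_injective (S.subtype.restrictScalars K) Subtype.val_injective
      have e1 : V ≃ₗ[A] LinearMap.range f × LinearMap.ker f :=
        (Submodule.prodEquivOfIsCompl _ _ hC.symm).symm ≪≫ₗ
          (((Submodule.quotientEquivOfIsCompl _ _ hC).symm ≪≫ₗ f.quotKerEquivRange).prodCongr (.refl _ _))
      have e2 : W ≃ₗ[A] LinearMap.range f × W' := (Submodule.prodEquivOfIsCompl _ _ hW').symm
      have d1 := (e1.restrictScalars K).finrank_eq
      have d2 := (e2.restrictScalars K).finrank_eq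
      rw [finrank_prod] at d1 d2
      have : Nontrivial (LinearMap.range f) := Submodule.nontrivial_iff_ne_bot.2 fun e => hf (LinearMap.range_eq_bot.1 e)
      have d3 : 0 < finrank K (LinearMap.range f) := finrank_pos
      rw [addL K e1, addL K e2, addL K e1, addL K e2] at h
      simp only [addR K e1, addR K e2] at h
      obtain ⟨e⟩ := ih (LinearMap.ker f) W' (by omega) (by omega)
      exact ⟨e1 ≪≫ₗ (LinearEquiv.refl _ _).prodCongr e ≪≫ₗ e2.symm⟩
    intro V W _ _ _ _ _ _ _ _ _ _ _ _ hN h
    by_cases h1 : ∃ f : V →ₗ[A] W, f ≠ 0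
    · obtain ⟨f, hf⟩ := h1
      exact step V W hN h f hf
    by_cases h2 : ∃ f : W →ₗ[A] V, f ≠ 0
    · obtain ⟨f, hf⟩ := h2
      exact (step W V (by omega) (by omega) f hf).map LinearEquiv.symm
    push Not at h1 h2
    have := subsingleton_of_forall_eq _ h1
    have := subsingleton_of_forall_eq _ h2
    rw [finrank_zero_of_subsingleton (M := V →ₗ[A] W), finrank_zero_of_subsingleton (M := W →ₗ[A] V)] at h
    have s1 : Subsingleton (V →ₗ[A] V) := finrank_zero_iff.1 (show finrank K _ = 0 by omega)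
    have s2 : Subsingleton (W →ₗ[A] W) := finrank_zero_iff.1 (show finrank K _ = 0 by omega)
    exact ⟨LinearEquiv.ofLinearMap 0 0 (Subsingleton.elim _ _) (Subsingleton.elim _ _)⟩

end Semi

variable {P K n : Type*} [Group P] [Field K] [Fintype n] [DecidableEq n]

/-- the intertwiners -/
def Hm (ρ σ : P →* GL n K) : Submodule K (Matrix n n K) where
  carrier := {X | ∀ p, X * (ρ p : Matrix n n K) = (σ p : Matrix n n K) * X}
  add_mem' := fun ha hb p => by rw [add_mul, mul_add, ha p, hb p]
  zero_mem' := fun _ => by simp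
  smul_mem' := fun c _ h p => by rw [smul_mul_assoc, mul_smul_comm, h p]

/-- the numerical condition -/
def Nm (ρ σ : P →* GL n K) : Prop :=
  finrank K (Hm ρ ρ) + finrank K (Hm σ σ) = finrank K (Hm ρ σ) + finrank K (Hm σ ρ)

namespace Semi

theorem hm_conj {ρ ρ' σ σ' : P →* GL n K} {g k : GL n K} (h : ∀ p, ρ' p = g * ρ p * g⁻¹) (h' : ∀ p, σ' p = k * σ p * k⁻¹) :
    finrank K (Hm ρ σ) ≤ finrank K (Hm ρ' σ') := by
  let f : Hm ρ σ →ₗ[K] Hm ρ' σ' :=
    { toFun := fun X => ⟨(k : Matrix n n K) * X * (g⁻¹ : GL n K), fun p => by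
        have := X.2 p
        simp only [h p, h' p, Units.val_mul, mul_assoc, Units.inv_mul_cancel_left]
        rw [← mul_assoc X.1, this, mul_assoc]⟩
      map_add' := fun X Y => Subtype.ext (by simp [mul_add, add_mul])
      map_smul' := fun c X => Subtype.ext (by simp) }
  refine LinearMap.finrank_le_finrank_of_injective (f := f) fun X Y e => Subtype.ext ?_
  have e : (k : Matrix n n K) * X * (g⁻¹ : GL n K) = (k : Matrix n n K) * Y * (g⁻¹ : GL n K) := congrArg Subtype.val e
  exact (Units.mul_right_inj k).1 ((Units.mul_left_inj g⁻¹).1 e)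

theorem hm_conj' {ρ ρ' σ σ' : P →* GL n K} {g k : GL n K} (h : ∀ p, ρ' p = g * ρ p * g⁻¹) (h' : ∀ p, σ' p = k * σ p * k⁻¹) :
    finrank K (Hm ρ σ) = finrank K (Hm ρ' σ') :=
  (hm_conj h h').antisymm (hm_conj (g := g⁻¹) (k := k⁻¹) (fun p => by rw [h]; group) fun p => by rw [h']; group)

/-- the representation on column vectors -/
noncomputable def rep (ρ : P →* GL n K) : Representation K P (n → K) :=
  (Matrix.toLinAlgEquiv' (R := K) (n := n)).toAlgHom.toMonoidHom.comp ((Units.coeHom _).comp ρ)

theorem rep_apply (ρ : P →* GL n K) (p : P) : rep ρ p = Matrix.toLin' (ρ p : Matrix n n K) := rfl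

/-- intertwining matrices and intertwining maps -/
noncomputable def hmEquiv (ρ σ : P →* GL n K) : Hm ρ σ ≃ₗ[K] (rep ρ).IntertwiningMap (rep σ) where
  toFun X := ⟨Matrix.toLin' X.1, fun p => by rw [rep_apply, rep_apply, ← Matrix.toLin'_mul, ← Matrix.toLin'_mul, X.2 p]⟩
  invFun f := ⟨LinearMap.toMatrix' f.toLinearMap, fun p => by
    have := congrArg LinearMap.toMatrix' (f.isIntertwining' p)
    simpa only [rep_apply, LinearMap.toMatrix'_comp, LinearMap.toMatrix'_toLin'] using this⟩
  map_add' X Y := by ext1; simp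
  map_smul' c X := by ext1; simp
  left_inv X := by simp
  right_inv f := by ext1; simp

end Semi

open Semi

theorem nm_of_conj {ρ σ : P →* GL n K} {g : GL n K} (h : ∀ p, σ p = g * ρ p * g⁻¹) : Nm ρ σ := by
  have r : ∀ p, ρ p = 1 * ρ p * 1⁻¹ := fun p => by simp
  rw [Nm, ← hm_conj' h h, ← hm_conj' r h, ← hm_conj' h r]

theorem Nm.conj [Finite P] {ρ σ : P →* GL n K} (hP : (Nat.card P : K) ≠ 0) (h : Nm ρ σ) :
    ∃ g : GL n K, ∀ p, σ p = g * ρ p * g⁻¹ := by
  have : NeZero (Nat.card P : K) := ⟨hP⟩
  have e : ∀ ρ σ : P →* GL n K,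
      finrank K (Hm ρ σ) = finrank K ((rep ρ).asModule →ₗ[MonoidAlgebra K P] (rep σ).asModule) := fun ρ σ =>
    (hmEquiv ρ σ ≪≫ₗ Representation.IntertwiningMap.equivLinearMapAsModule _ _).finrank_eq
  rw [Nm, e, e, e, e] at h
  have fd : ∀ ρ : P →* GL n K, FiniteDimensional K (rep ρ).asModule := fun ρ =>
    (rep ρ).asModuleEquiv.symm.finiteDimensional
  obtain ⟨φ⟩ := key K _ _ _ (Nat.lt_succ_self _) h
  let X := (hmEquiv ρ σ ≪≫ₗ Representation.IntertwiningMap.equivLinearMapAsModule _ _).symm φ.toLinearMap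
  have hX : ∀ v, Matrix.toLin' X.1 v = φ v := fun v =>
    LinearMap.congr_fun ((hmEquiv ρ σ ≪≫ₗ Representation.IntertwiningMap.equivLinearMapAsModule _ _).apply_symm_apply
      φ.toLinearMap) v
  have hu : IsUnit X.1 := by
    rw [← Matrix.mulVec_injective_iff_isUnit]
    intro v w e
    exact φ.injective ((hX v).symm.trans (e.trans (hX w)))
  refine ⟨hu.unit, fun p => ?_⟩
  rw [eq_mul_inv_iff_mul_eq]
  exact Units.ext (X.2 p).symm

end CL.Ln
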