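/- Monomial matrices; conjugacy of monomial representations of 2-groups does not depend on the field. -/
import Cfsg.Agent.FUS.Ln.Orb
import Cfsg.Agent.FUS.Ln.Semi

set_option autoImplicit false

namespace CL.Ln

open Matrix Module Equiv

/-- the abstract monomial group -/
abbrev Mo (n A : Type*) [CommGroup A] := (n → A) ⋊[mulAutArrow] Perm n

variable {n A B K K' P : Type*} [CommGroup A] [CommGroup B] [Field K] [Field K'] [Group P]

theorem Mo.mul_left (x y : Mo n A) (i : n) : (x * y).left i = x.left i * y.left (x.right⁻¹ i) := rfl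

/-- change of the coefficients -/
def mp (κ : A →* B) : Mo n A →* Mo n B := MonoidHom.mk' (fun x => ⟨fun i => κ (x.left i), x.right⟩) fun x y =>
  SemidirectProduct.ext (funext fun _ => map_mul κ _ _) rfl

theorem mp_inj {κ : A →* B} (h : Function.Injective κ) : Function.Injective (mp (n := n) κ) := fun _ _ e =>
  SemidirectProduct.ext (funext fun i => h (congrFun (congrArg SemidirectProduct.left e) i))
    (congrArg SemidirectProduct.right e :)

variable [DecidableEq n]

/-- a monomial matrix -/
def mm (a : n → K) (π : Perm n) : Matrix n n K := (diagonal a).submatrix id π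

theorem mm_apply (a : n → K) (π : Perm n) (i j : n) : mm a π i j = if i = π j then a i else 0 := rfl

variable [Fintype n]

theorem mul_mm (X : Matrix n n K) (a : n → K) (π : Perm n) (i j : n) : (X * mm a π) i j = X i (π j) * a (π j) := by
  simp [mul_apply, mm_apply]

theorem mm_mul (X : Matrix n n K) (a : n → K) (π : Perm n) (i j : n) : (mm a π * X) (π i) j = a (π i) * X i j := by
  simp [mul_apply, mm_apply]

/-- the monomial group over the field -/
def mu : Mo n Kˣ →* GL n K := MonoidHom.toHomUnits
  { toFun := fun x => mm (fun i => x.left i) x.right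
    map_one' := rfl
    map_mul' := fun x y => by
      ext i j
      simp only [mul_mm, mm_apply, Mo.mul_left, SemidirectProduct.mul_right, Perm.mul_apply]
      split_ifs with h <;> simp [h] }

theorem coe_mu (x : Mo n Kˣ) : (mu x : Matrix n n K) = mm (fun i => (x.left i : K)) x.right := rfl

theorem mu_inj : Function.Injective (mu : Mo n Kˣ →* GL n K) := (injective_iff_map_eq_one _).2 fun x h => by
  have k : ∀ i j, (if i = x.right j then (x.left i : K) else 0) = if i = j then 1 else 0 := fun i j =>
    congrFun (congrFun (congrArg (fun g : GL n K => g.1) h) i) j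
  have e : ∀ j, j = x.right j := fun j => by
    by_contra e
    simpa [e] using k j j
  refine SemidirectProduct.ext (funext fun i => Units.ext ?_) (Equiv.ext fun j => (e j).symm)
  simpa [← e] using k i i

theorem det_mu (x : Mo n Kˣ) : ((GeneralLinearGroup.det (mu x) : Kˣ) : K) = Perm.sign x.right * ↑(∏ i, x.left i) := by
  rw [GeneralLinearGroup.val_det_apply, coe_mu, mm, det_permute', det_diagonal, Units.coe_prod]

theorem mu_mem_center (x : Mo n Kˣ) :
    mu x ∈ Subgroup.center (GL n K) ↔ x.right = 1 ∧ ∀ i j, x.left i = x.left j := by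
  rw [GeneralLinearGroup.center_eq_range_scalar]
  have k : ∀ c : Kˣ, GeneralLinearGroup.scalar n c = mu ⟨fun _ => c, 1⟩ := fun c => Units.ext rfl
  refine ⟨fun ⟨c, h⟩ => by rw [← mu_inj ((k c).symm.trans h)]; exact ⟨rfl, fun _ _ => rfl⟩, fun ⟨h, l⟩ => ?_⟩
  rcases isEmpty_or_nonempty n with _ | ⟨⟨i⟩⟩
  · exact ⟨1, Subsingleton.elim _ _⟩
  · exact ⟨x.left i, (k _).trans (congrArg _ (SemidirectProduct.ext (funext fun j => l i j) h.symm))⟩

/-- the monomial representation -/
def rh (χ : A →* Kˣ) : Mo n A →* GL n K := mu.comp (mp χ)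

theorem rh_inj {χ : A →* Kˣ} (h : Function.Injective χ) : Function.Injective (rh (n := n) χ) := mu_inj.comp (mp_inj h)

theorem rh_mem_center {χ : A →* Kˣ} (h : Function.Injective χ) (x : Mo n A) :
    rh χ x ∈ Subgroup.center (GL n K) ↔ x.right = 1 ∧ ∀ i j, x.left i = x.left j :=
  (mu_mem_center _).trans (and_congr_right' (forall₂_congr fun _ _ => h.eq_iff))

theorem det_rh {χ : A →* Kˣ} (h : Function.Injective χ) {z : A} (hz : χ z = -1) (x : Mo n A) :
    GeneralLinearGroup.det (rh χ x) = 1 ↔ (if Perm.sign x.right = 1 then 1 else z) * ∏ i, x.left i = 1 := by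
  rw [← h.eq_iff, map_mul, map_prod, map_one, Units.ext_iff, Units.ext_iff, rh, MonoidHom.comp_apply, det_mu]
  change ((Perm.sign x.right : ℤ) : K) * ↑(∏ i, χ (x.left i)) = _ ↔ _
  rcases Int.units_eq_one_or (Perm.sign x.right) with e | e <;> simp [e, hz]

/-- the action on the pairs of indices -/
def ac (α β : P →* Mo n A) : P →* Perm (n × n) := MonoidHom.mk' (fun p => prodCongr (β p).right (α p).right) fun p q => by
  ext1 x; simp only [map_mul]; rfl

/-- the cocycle -/
def cc (α β : P →* Mo n A) (p : P) (ω : n × n) : A := (β p).left ((β p).right ω.1) / (α p).left ((α p).right ω.2)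

theorem finrank_Hm {χ : A →* Kˣ} (h : Function.Injective χ) (α β : P →* Mo n A) :
    finrank K (Hm ((rh χ).comp α) ((rh χ).comp β)) = Nat.card {O // Gd (ac α β) (cc α β) O} := by
  rw [← finrank_Sp h _ fun p q ω => by
    simp only [cc, ac, map_mul, Mo.mul_left, SemidirectProduct.mul_right, Perm.mul_apply, MonoidHom.mk'_apply,
      prodCongr_apply, Prod.map_fst, Prod.map_snd, Perm.coe_inv, symm_apply_apply, div_mul_div_comm]]
  let l : (n × n → K) ≃ₗ[K] Matrix n n K := (LinearEquiv.curry K K n n).trans (Matrix.ofLinearEquiv K)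
  rw [← l.finrank_map_eq]
  refine congrArg (fun W : Submodule K (Matrix n n K) => finrank K W) (Submodule.ext fun X => ?_)
  obtain ⟨X, rfl⟩ := l.surjective X
  rw [Submodule.mem_map_equiv, l.symm_apply_apply]
  refine forall_congr' fun p => ?_
  rw [← Matrix.ext_iff, ← (β p).right.forall_congr_right, Prod.forall]
  refine forall₂_congr fun i j => ?_
  simp only [rh, MonoidHom.comp_apply, coe_mu]
  rw [mul_mm, show (β p).right = (mp χ (β p)).right from rfl, mm_mul, cc, map_div, Units.val_div_eq_div_val,
    div_mul_eq_mul_div, eq_div_iff (Units.ne_zero _)]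
  rfl

theorem fu_rh {T : Type*} [Group T] [Finite T] (hT : IsPGroup 2 T) {χ : A →* Kˣ} {χ' : A →* K'ˣ} (h : Function.Injective χ)
    (h' : Function.Injective χ') (two : (2 : K') ≠ 0) (ι : T →* Mo n A) {R : Set (T × T)} (k : Fu ((rh χ).comp ι) R) :
    Fu ((rh χ').comp ι) R := by
  have : Fact (Nat.Prime 2) := ⟨Nat.prime_two⟩
  obtain ⟨g, k⟩ := k
  let Q : Subgroup (T × T) := (((rh χ).comp ι).comp (.snd T T)).eqLocus
    ((MulAut.conj g).toMonoidHom.comp (((rh χ).comp ι).comp (.fst T T)))
  let α : Q →* Mo n A := ι.comp ((MonoidHom.fst T T).comp Q.subtype)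
  let β : Q →* Mo n A := ι.comp ((MonoidHom.snd T T).comp Q.subtype)
  have e : Nm ((rh χ).comp α) ((rh χ).comp β) := nm_of_conj (g := g) fun p => p.2
  have e' : Nm ((rh χ').comp α) ((rh χ').comp β) := by simpa only [Nm, finrank_Hm h, finrank_Hm h'] using e
  obtain ⟨m, hm⟩ := hT.exists_card_eq
  obtain ⟨x, l⟩ := e'.conj fun z => two (by
    obtain ⟨c, hc⟩ := Subgroup.card_subgroup_dvd_card Q
    have := congrArg (Nat.cast : ℕ → K') hc
    rw [Nat.card_prod, hm, Nat.cast_mul, Nat.cast_mul, z, zero_mul, mul_self_eq_zero, Nat.cast_pow] at this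
    exact_mod_cast eq_zero_of_pow_eq_zero this)
  exact ⟨x, fun p hp => l ⟨p, k p hp⟩⟩

end CL.Ln
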