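/- Fixed points of an involution of `GL_n(K)`: the 2-fusion is read off from the monomial group. -/
import Cfsg.Agent.FUS.Ln.Mono
import Cfsg.Agent.FUS.Ln.Alp

set_option autoImplicit false

namespace CL.Ln

open Matrix Subgroup

variable {n A : Type*} [CommGroup A] [DecidableEq n] [Fintype n]

/-- an involution of `GL_n(K)` compatible with the monomial group -/
structure Dt (n : Type*) [DecidableEq n] [Fintype n] (κ : A →* A) (z : A) (K : Type*) [Field K] where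
  θ : GL n K →* GL n K
  τ : Kˣ →* Kˣ
  χ : A →* Kˣ
  θθ : ∀ g, θ (θ g) = g
  θμ : ∀ x, θ (mu x) = mu (mp τ x)
  det : ∀ g, GeneralLinearGroup.det (θ g) = τ (GeneralLinearGroup.det g)
  h90 : ∀ h, θ h * h = 1 → ∃ u, θ u * h = u ∧ ∀ y, Commute y h → Commute y u
  inj : Function.Injective χ
  cmp : ∀ a, τ (χ a) = χ (κ a)
  odd : ¬ 2 ∣ (rh (n := n) χ).range.index
  hz : χ z = -1
  two : (2 : K) ≠ 0

variable {κ : A →* A} {z : A} {K K' T : Type*} [Field K] [Field K'] [Group T]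

namespace Dt

variable (D : Dt n κ z K)

/-- the fixed points -/
def Fx : Subgroup (GL n K) := D.θ.eqLocus (MonoidHom.id _)

theorem θρ (x : Mo n A) : D.θ (rh D.χ x) = rh D.χ (mp κ x) :=
  (D.θμ _).trans (congrArg mu (SemidirectProduct.ext (funext fun _ => D.cmp _) rfl))

theorem exists_X {w : Mo n A} (h : mp κ w * w = 1) : ∃ X, X * (D.θ X)⁻¹ = rh D.χ w := by
  obtain ⟨u, e, -⟩ := D.h90 (rh D.χ w) (by rw [θρ, ← map_mul, h, map_one])
  exact ⟨(D.θ u)⁻¹, by rw [map_inv, inv_inv, D.θθ, inv_mul_eq_iff_eq_mul, e]⟩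

variable {D} {w : Mo n A} {X : GL n K} (hX : X * (D.θ X)⁻¹ = rh D.χ w)
include hX

theorem tw : mp κ w * w = 1 := rh_inj D.inj (by
  rw [map_mul, ← θρ, ← hX, map_mul, map_inv, D.θθ, map_one]; group)

theorem mem_Fx (g : GL n K) : X⁻¹ * g * X ∈ D.Fx ↔ rh D.χ w * D.θ g * (rh D.χ w)⁻¹ = g := by
  change D.θ _ = X⁻¹ * g * X ↔ _
  rw [map_mul, map_mul, map_inv, ← hX]
  exact ⟨fun h => by rw [_root_.mul_inv_rev, inv_inv, mul_assoc X, ← mul_assoc, mul_assoc X, h]; group,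
    fun h => by conv_rhs => rw [← h]
                group⟩

theorem rh_mem (x : Mo n A) : X⁻¹ * rh D.χ x * X ∈ D.Fx ↔ w * mp κ x * w⁻¹ = x := by
  rw [mem_Fx hX, θρ, ← map_inv, ← map_mul, ← map_mul, (rh_inj D.inj).eq_iff]

/-- the embedding into the fixed points -/
def fr (ι : T →* Mo n A) (hι : ∀ t, w * mp κ (ι t) * w⁻¹ = ι t) : T →* D.Fx :=
  ((MulAut.conj X⁻¹).toMonoidHom.comp ((rh D.χ).comp ι)).codRestrict _ fun t => by
    simpa using (rh_mem hX _).2 (hι t)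

variable {ι : T →* Mo n A} (hι : ∀ t, w * mp κ (ι t) * w⁻¹ = ι t)

theorem coe_fr (t : T) : (fr hX ι hι t : GL n K) = X⁻¹ * rh D.χ (ι t) * X := by simp [fr]

theorem fu_fr (R : Set (T × T)) : Fu (fr hX ι hι) R ↔ Fu ((rh D.χ).comp ι) R := by
  have c : ∀ t, (rh D.χ).comp ι t = X * fr hX ι hι t * X⁻¹ := fun t => by simp [coe_fr, mul_assoc]
  refine ⟨fun ⟨g, h⟩ => ⟨X * g * X⁻¹, fun p hp => by rw [c, c, h p hp, coe_mul, coe_mul, coe_inv]; group⟩,
    fun ⟨g, h⟩ => ?_⟩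
  obtain ⟨y, rfl⟩ : ∃ y, g = X * y * X⁻¹ := ⟨X⁻¹ * g * X, by group⟩
  have k : ∀ p ∈ R, (fr hX ι hι p.2 : GL n K) = y * fr hX ι hι p.1 * y⁻¹ := fun p hp => by
    have := h p hp
    rw [c, c] at this
    rw [show (fr hX ι hι p.2 : GL n K) = X⁻¹ * (X * fr hX ι hι p.2 * X⁻¹) * X by group, this]
    group
  obtain ⟨u, e, d⟩ := D.h90 (y⁻¹ * D.θ y) (by rw [map_mul, map_inv, D.θθ]; group)
  refine ⟨⟨y * u, ?_⟩, fun p hp => Subtype.ext ?_⟩
  · change D.θ _ = y * u
    rw [map_mul, eq_mul_inv_of_mul_eq e, ← mul_inv_cancel_left y (D.θ y), mul_assoc, ← mul_assoc _ u,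
      (d _ (Commute.refl _)).eq, inv_mul_cancel_left, mul_inv_cancel_right]
  · have := congrArg D.θ (k p hp)
    rw [map_mul, map_mul, map_inv, (fr hX ι hι p.1).2, (fr hX ι hι p.2).2, MonoidHom.id_apply, MonoidHom.id_apply,
      k p hp] at this
    have l := (d (fr hX ι hι p.1) (by
      rw [Commute, SemiconjBy, mul_assoc, mul_inv_eq_iff_eq_mul.1 this.symm]; group)).eq
    rw [k p hp, coe_mul, coe_mul, coe_inv, mul_assoc y u, ← l]
    group

theorem exists_cent [Finite T] [Finite K] (hT : IsPGroup 2 T) [Nonempty n] (g : D.Fx) (o : Odd (orderOf g)) :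
    ∃ c, (∀ t, c * fr hX ι hι t = fr hX ι hι t * c) ∧
      g * c ∈ (GeneralLinearGroup.det.comp D.Fx.subtype).ker := by
  classical
  have : Fact (Nat.Prime 2) := ⟨Nat.prime_two⟩
  have w2 : w.right * w.right = 1 := congrArg SemidirectProduct.right (tw hX)
  have cw : ∀ t, w.right * (ι t).right * w.right⁻¹ = (ι t).right := fun t => congrArg SemidirectProduct.right (hι t)
  let H : Subgroup (Equiv.Perm n) := (SemidirectProduct.rightHom.comp ι).range ⊔ zpowers w.right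
  have hH : IsPGroup 2 H := by
    refine IsPGroup.to_sup_of_normal_left' (hT.of_surjective _ (MonoidHom.rangeRestrict_surjective _)) ?_ ?_
    · rintro ⟨_, i, rfl⟩
      exact ⟨1, Subtype.ext (by
        change (w.right ^ i) ^ 2 = 1
        rw [← zpow_natCast, ← _root_.zpow_mul, mul_comm, _root_.zpow_mul, zpow_natCast, sq, w2, _root_.one_zpow])⟩
    · refine zpowers_le.2 (centralizer_le_normalizer _ ?_)
      rintro _ ⟨t, rfl⟩
      exact (mul_inv_eq_iff_eq_mul.1 (cw t)).symm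
  obtain ⟨i⟩ := ‹Nonempty n›
  obtain ⟨k, hk⟩ := hH.card_orbit i
  let O := MulAction.orbit H i
  have inv : ∀ π ∈ H, ∀ j, π⁻¹ j ∈ O ↔ j ∈ O := fun π h j =>
    ⟨fun k => by simpa using MulAction.mem_orbit_of_mem_orbit (⟨π, h⟩ : H) k,
      MulAction.mem_orbit_of_mem_orbit (⟨π, h⟩⁻¹ : H)⟩
  let d := GeneralLinearGroup.det (g : GL n K)
  have od : Odd (orderOf d) := o.of_dvd_nat (orderOf_map_dvd (GeneralLinearGroup.det.comp D.Fx.subtype) g)
  obtain ⟨m, hm⟩ := exists_pow_eq_self_of_coprime ((Nat.coprime_two_left.2 od).pow_left k)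
  have fx : D.τ (d ^ m)⁻¹ = (d ^ m)⁻¹ := by rw [map_inv, map_pow, ← D.det, g.2]; rfl
  let e : Mo n Kˣ := ⟨fun j => if j ∈ O then (d ^ m)⁻¹ else 1, 1⟩
  have cm : ∀ x : Mo n A, x.right ∈ H → rh D.χ x * mu e = mu e * rh D.χ x := fun x hx => by
    rw [rh, MonoidHom.comp_apply, ← map_mul, ← map_mul]
    refine congrArg _ (SemidirectProduct.ext (funext fun j => ?_) ((mul_one _).trans (one_mul _).symm))
    rw [Mo.mul_left, Mo.mul_left, mul_comm]
    exact congrArg (· * _) (if_congr (inv _ hx j) rfl rfl)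
  refine ⟨⟨X⁻¹ * mu e * X, (mem_Fx hX _).2 ?_⟩, fun t => Subtype.ext ?_, ?_⟩
  · rw [D.θμ, show mp D.τ e = e from SemidirectProduct.ext (funext fun j => ?_) rfl,
      cm w (mem_sup_right (mem_zpowers _)), mul_inv_cancel_right]
    change D.τ (ite _ _ _) = ite _ _ _
    rw [apply_ite D.τ, fx, map_one]
  · rw [coe_mul, coe_mul, coe_fr]
    calc X⁻¹ * mu e * X * (X⁻¹ * rh D.χ (ι t) * X) = X⁻¹ * (mu e * rh D.χ (ι t)) * X := by group
      _ = _ := by rw [← cm _ (mem_sup_left ⟨t, rfl⟩)]; group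
  · have : GeneralLinearGroup.det (mu e) = d⁻¹ := Units.ext (by
      rw [det_mu, Finset.prod_ite, Finset.prod_const_one, Finset.prod_const, ← Fintype.card_subtype,
        ← Nat.card_eq_fintype_card, hk, inv_pow, ← pow_mul, pow_mul', hm]
      simp [e])
    simp [MonoidHom.mem_ker, this, d]

omit hX in
theorem exists_fr [Finite K] (D : Dt n κ z K) (S : Subgroup D.Fx) (hS : IsPGroup 2 S) :
    ∃ (w : Mo n A) (X : GL n K) (hX : X * (D.θ X)⁻¹ = rh D.χ w) (ι : S →* Mo n A)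
      (hι : ∀ t, w * mp κ (ι t) * w⁻¹ = ι t), fr hX ι hι = S.subtype := by
  classical
  have : Fact (Nat.Prime 2) := ⟨Nat.prime_two⟩
  let M := (rh (n := n) D.χ).range
  let S' := S.map D.Fx.subtype
  have h1 : ¬ 2 ∣ Nat.card (MulAction.fixedPoints S' (GL n K ⧸ M)) := fun h =>
    D.odd (((hS.map _).card_modEq_card_fixedPoints _).dvd_iff dvd_rfl |>.2 h)
  have hM : ∀ g ∈ M, D.θ g ∈ M := by rintro _ ⟨x, rfl⟩; exact ⟨_, (D.θρ x).symm⟩
  let f : GL n K ⧸ M → GL n K ⧸ M := Quotient.map' D.θ fun a b h => by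
    rw [QuotientGroup.leftRel_apply] at h ⊢
    simpa using hM _ h
  let f' : MulAction.fixedPoints S' (GL n K ⧸ M) → MulAction.fixedPoints S' (GL n K ⧸ M) := fun x => ⟨f x, by
    obtain ⟨x, hx⟩ := x
    obtain ⟨x, rfl⟩ := QuotientGroup.mk_surjective x
    rintro ⟨_, s, hs, rfl⟩
    have := congrArg f (hx ⟨_, s, hs, rfl⟩)
    change ((D.θ (s * x) : GL n K) : GL n K ⧸ M) = _ at this
    rwa [map_mul, s.2] at this⟩
  have f2 : Function.Involutive f' := fun ⟨x, _⟩ => Subtype.ext (by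
    obtain ⟨x, rfl⟩ := QuotientGroup.mk_surjective x
    exact congrArg QuotientGroup.mk (D.θθ x))
  have := Fintype.ofFinite (MulAction.fixedPoints S' (GL n K ⧸ M))
  obtain ⟨⟨x, hx⟩, e⟩ := Equiv.Perm.exists_fixed_point_of_prime (p := 2) (n := 1) (σ := f2.toPerm f')
    (by rwa [← Nat.card_eq_fintype_card]) (Equiv.ext f2)
  obtain ⟨x, rfl⟩ := QuotientGroup.mk_surjective x
  obtain ⟨w, hw⟩ : x⁻¹ * D.θ x ∈ M := QuotientGroup.eq.1 (congrArg Subtype.val e).symm
  have hX : x⁻¹ * (D.θ x⁻¹)⁻¹ = rh D.χ w := by rw [map_inv, inv_inv, hw]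
  let φ : S →* M := ((MulAut.conj x⁻¹).toMonoidHom.comp (D.Fx.subtype.comp S.subtype)).codRestrict _ fun s => by
    simpa [mul_assoc] using QuotientGroup.eq.1 (hx ⟨_, s, s.2, rfl⟩).symm
  let ι : S →* Mo n A := (MonoidHom.ofInjective (rh_inj D.inj)).symm.toMonoidHom.comp φ
  have k : ∀ s, x⁻¹⁻¹ * rh D.χ (ι s) * x⁻¹ = (s : D.Fx) := fun s => by
    rw [show rh D.χ (ι s) = x⁻¹ * (s : D.Fx) * x⁻¹⁻¹ from MonoidHom.apply_ofInjective_symm (rh_inj D.inj) _]
    group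
  exact ⟨w, _, hX, ι, fun s => (rh_mem hX _).1 (k s ▸ (s : D.Fx).2),
    MonoidHom.ext fun s => Subtype.ext ((coe_fr hX _ s).trans (k s))⟩

theorem fr_inj (h : Function.Injective ι) : Function.Injective (fr hX ι hι) := fun a b e => by
  have := congrArg Subtype.val e
  rw [coe_fr, coe_fr, mul_left_inj, mul_right_inj] at this
  exact h (rh_inj D.inj this)

theorem inj_of_fr (h : Function.Injective (fr hX ι hι)) : Function.Injective ι := fun a b e =>
  h (Subtype.ext (by rw [coe_fr, coe_fr, e]))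

theorem det_fr (t : T) : fr hX ι hι t ∈ (GeneralLinearGroup.det.comp D.Fx.subtype).ker ↔
    (if Equiv.Perm.sign (ι t).right = 1 then 1 else z) * ∏ i, (ι t).left i = 1 := by
  rw [← det_rh D.inj D.hz]
  simp [MonoidHom.mem_ker, coe_fr]

theorem center_fr (t : T) : (fr hX ι hι t : GL n K) ∈ center (GL n K) ↔
    (ι t).right = 1 ∧ ∀ i j, (ι t).left i = (ι t).left j := by
  rw [← rh_mem_center D.inj, coe_fr, Normal.mem_comm_iff inferInstance, mul_inv_cancel_left]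

omit hX in
theorem exists_equiv (D : Dt n κ z K) {N : Type*} [Group N] {j : N →* GL n K} (hj : Function.Injective j)
    (r : j.range = D.Fx ⊓ GeneralLinearGroup.det.ker) :
    ∃ σ : (GeneralLinearGroup.det.comp D.Fx.subtype).ker ≃* N, ∀ x, j (σ x) = (x : D.Fx) :=
  ⟨((equivMapOfInjective _ D.Fx.subtype (subtype_injective _)).trans (MulEquiv.subgroupCongr (by
    rw [r, ← MonoidHom.comap_ker]; exact (subgroupOf_map_subtype _ _).trans (inf_comm _ _)))).trans
      (MonoidHom.ofInjective hj).symm, fun _ => MonoidHom.apply_ofInjective_symm hj _⟩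

end Dt

theorem val_le [Finite K] [Finite K'] (D : Dt n κ z K) (D' : Dt n κ z K') :
    (Nat.card D.Fx).factorization 2 ≤ (Nat.card D'.Fx).factorization 2 := by
  obtain ⟨S⟩ : Nonempty (Sylow 2 D.Fx) := inferInstance
  obtain ⟨w, X, hX, ι, hι, e⟩ := D.exists_fr S S.2
  obtain ⟨X', hX'⟩ := D'.exists_X (Dt.tw hX)
  have := card_dvd_of_injective _ (Dt.fr_inj hX' hι (Dt.inj_of_fr hX hι (e ▸ subtype_injective _)))
  rwa [(emb_subtype S).card, Nat.prime_two.pow_dvd_iff_le_factorization Nat.card_pos.ne'] at this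

/-- the main comparison -/
theorem eqv_of [Finite K] [Finite K'] [Nonempty n] (D : Dt n κ z K) (D' : Dt n κ z K') {N N' : Type*} [Group N] [Group N']
    {j : N →* GL n K} {j' : N' →* GL n K'} (hj : Function.Injective j) (hj' : Function.Injective j')
    (r : j.range = D.Fx ⊓ GeneralLinearGroup.det.ker) (r' : j'.range = D'.Fx ⊓ GeneralLinearGroup.det.ker)
    (c : ∀ x, x ∈ center N ↔ j x ∈ center (GL n K)) (c' : ∀ x, x ∈ center N' ↔ j' x ∈ center (GL n K')) :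
    Eqv (N ⧸ center N) (N' ⧸ center N') := by
  obtain ⟨S⟩ : Nonempty (Sylow 2 D.Fx) := inferInstance
  obtain ⟨w, X, hX, ι, hι, e⟩ := D.exists_fr S S.2
  obtain ⟨X', hX'⟩ := D'.exists_X (Dt.tw hX)
  have h : Sim (Dt.fr hX ι hι) (Dt.fr hX' ι hι) := ⟨e ▸ emb_subtype S,
    emb_of_card (Dt.fr_inj hX' hι (Dt.inj_of_fr hX hι (e ▸ subtype_injective _)))
      (by rw [(emb_subtype S).card, le_antisymm (val_le D D') (val_le D' D)]), fun R => by
    rw [Dt.fu_fr, Dt.fu_fr]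
    exact ⟨fu_rh S.2 D.inj D'.inj D'.two ι, fu_rh S.2 D'.inj D.inj D.two ι⟩⟩
  obtain ⟨φ, φ', h, e, e'⟩ := h.normal (GeneralLinearGroup.det.comp D.Fx.subtype).ker
    (GeneralLinearGroup.det.comp D'.Fx.subtype).ker (fun t => by rw [Dt.det_fr, Dt.det_fr])
    (Dt.exists_cent hX hι S.2) (Dt.exists_cent hX' hι S.2)
  obtain ⟨σ, k⟩ := D.exists_equiv hj r
  obtain ⟨σ', k'⟩ := D'.exists_equiv hj' r'
  have := Finite.of_injective j hj
  have := Finite.of_injective j' hj'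
  refine ((h.1.sim_map σ).symm.trans (h.trans (h.2.1.sim_map σ'))).quot (QuotientGroup.mk'_surjective _)
    (QuotientGroup.mk'_surjective _) (QuotientGroup.ker_mk' _).le (QuotientGroup.ker_mk' _).le fun t => ?_
  simp only [QuotientGroup.mk'_apply, QuotientGroup.eq_one_iff, c, c', MonoidHom.comp_apply, MulEquiv.coe_toMonoidHom,
    k, k', e, e', Dt.center_fr]

end CL.Ln
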