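/- The linear and the unitary involution of `GL_n(q²)`. -/
import Cfsg.Agent.FUS.Ln.Tw
import Cfsg.Agent.FUS.Ln.Ar
import Cfsg.Agent.KSG.SpUUnitary

set_option autoImplicit false

namespace CL.Ln

open Matrix Subgroup CL.SqField CL.SpU

variable {A K : Type*} [CommGroup A] [Field K] [Fintype K] {q n : ℕ} (hK : Fintype.card K = q ^ 2)
include hK

theorem two_ne (o : Odd q) : (2 : K) ≠ 0 := fun h => by
  obtain ⟨k, e⟩ := o
  have := cast_q hK
  rw [e] at this
  simp [h] at this

theorem odd_index (o : Odd q) {χ : A →* Kˣ} (h : Function.Injective χ) (hA : Nat.card A = 2 ^ padicValNat 2 (q ^ 2 - 1)) :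
    ¬ 2 ∣ (rh (n := Fin n) χ).range.index := fun d => by
  have h1 := two_le hK
  have := (rh (n := Fin n) χ).range.card_mul_index
  rw [← Nat.card_congr (MonoidHom.ofInjective (rh_inj h)).toEquiv, SemidirectProduct.card, card_GL_field, hK,
    Nat.card_perm, Nat.card_fun, hA, Nat.card_eq_fintype_card, Fintype.card_fin, ← Nat.descFactorial_self,
    Nat.descFactorial_eq_prod_range, ← Finset.card_range n, ← Finset.prod_const, Finset.card_range,
    ← Finset.prod_mul_distrib, Fin.prod_univ_eq_prod_range (fun i => (q ^ 2) ^ n - (q ^ 2) ^ i)] at this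
  have nz : ∀ i ∈ Finset.range n, (q ^ 2) ^ n - (q ^ 2) ^ i ≠ 0 := fun i hi =>
    Nat.sub_ne_zero_of_lt (Nat.pow_lt_pow_right (by nlinarith) (Finset.mem_range.1 hi))
  have nz' : ∀ i ∈ Finset.range n, 2 ^ padicValNat 2 (q ^ 2 - 1) * (n - i) ≠ 0 := fun i hi =>
    mul_ne_zero (by positivity) (Nat.sub_ne_zero_of_lt (Finset.mem_range.1 hi))
  have i0 : (rh (n := Fin n) χ).range.index ≠ 0 := index_ne_zero_of_finite
  have e := congrArg (fun x : ℕ => x.factorization 2) this
  simp only [Nat.factorization_mul (Finset.prod_ne_zero_iff.2 nz') i0, Nat.factorization_prod nz,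
    Nat.factorization_prod nz', Finsupp.add_apply, Finsupp.finsetSum_apply] at e
  rw [Finset.sum_congr rfl (g := fun i => ((q ^ 2) ^ n - (q ^ 2) ^ i).factorization 2) fun i hi => ?_] at e
  · have := Nat.prime_two.factorization_pos_of_dvd i0 d
    omega
  obtain ⟨k, rfl⟩ := Nat.exists_eq_add_of_lt (Finset.mem_range.1 hi)
  have o2 : ¬ 2 ∣ q := o.not_two_dvd_nat
  have := padicValNat.pow_two_sub_one (n := 2 * (k + 1)) (by omega) o2 (by omega) (even_two_mul _)
  have p1 : 1 < (q ^ 2) ^ (k + 1) := Nat.one_lt_pow (by omega) (by nlinarith)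
  rw [Nat.factorization_def _ Nat.prime_two, Nat.factorization_def _ Nat.prime_two, add_assoc, pow_add, ← Nat.mul_sub_one,
    padicValNat.mul (by positivity) (by omega), padicValNat.mul (by positivity) (by omega), padicValNat.prime_pow,
    padicValNat.eq_zero_of_not_dvd (o.pow.pow (n := i)).not_two_dvd_nat, Nat.add_sub_cancel_left, ← pow_mul, val_sq (by omega)]
  rw [padicValNat.mul (by omega) (by omega), padicValNat_self] at this
  omega

theorem exists_chi [IsCyclic A] (hA : Nat.card A = 2 ^ padicValNat 2 (q ^ 2 - 1)) :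
    ∃ χ : A →* Kˣ, Function.Injective χ := by
  obtain ⟨H, hH⟩ := Sylow.exists_subgroup_card_pow_prime (G := Kˣ) 2 (n := padicValNat 2 (q ^ 2 - 1)) (by
    rw [Nat.card_units, Nat.card_eq_fintype_card, hK]; exact pow_padicValNat_dvd)
  exact ⟨H.subtype.comp (mulEquivOfCyclicCardEq (hA.trans hH.symm)).toMonoidHom,
    H.subtype_injective.comp (MulEquiv.injective _)⟩

omit [Fintype K] hK in
theorem eq_neg_one {χ : A →* Kˣ} (h : Function.Injective χ) {z : A} (hz : orderOf z = 2) : χ z = -1 := by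
  have : orderOf (χ z) = 2 := by rwa [orderOf_injective χ h]
  obtain ⟨h1, h2⟩ := orderOf_eq_prime_iff.1 this
  exact Units.ext ((sq_eq_one_iff.1 (congrArg Units.val h1 :)).resolve_left fun e => h2 (Units.ext e))

theorem h90_lin (h : GL (Fin n) K) (e : GeneralLinearGroup.map (conj hK : K →+* K) h * h = 1) :
    ∃ u, GeneralLinearGroup.map (conj hK : K →+* K) u * h = u ∧ ∀ y, Commute y h → Commute y u := by
  let σ : Matrix (Fin n) (Fin n) K →+* Matrix (Fin n) (Fin n) K := (conj hK : K →+* K).mapMatrix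
  have σσ : ∀ x, σ (σ x) = x := fun x => Matrix.ext fun i j => conj_conj hK _
  let S : Set (Matrix (Fin n) (Fin n) K) := {h.1, h⁻¹.1}
  have e1 : σ h.1 = h⁻¹.1 := congrArg Units.val (eq_inv_of_mul_eq_one_left e)
  have hS : ∀ s ∈ S, σ s ∈ S := by
    rintro _ (rfl | rfl)
    exacts [.inr e1, .inl (by rw [← e1, σσ])]
  have cm : ∀ a ∈ S, ∀ b ∈ S, a * b = b * a := by rintro _ (rfl | rfl) _ (rfl | rfl) <;> simp
  let _ : CommRing (bicomm S) := { (inferInstance : Ring (bicomm S)) with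
    mul_comm := fun x y => Subtype.ext (bicomm_comm cm x.2 y.2) }
  let τ : bicomm S →+* bicomm S := σ.restrict _ _ fun x hx y hy => by
    rw [← σσ y, ← map_mul, ← map_mul, hx _ fun s hs => by rw [← σσ s, ← map_mul, ← map_mul, hy _ (hS s hs)]]
  obtain ⟨c, hc⟩ := exists_pow_q_ne hK
  obtain ⟨u, hu, k⟩ := comm_hilbert90 τ (fun x => Subtype.ext (σσ x))
    (l := ⟨scalar _ c, mem_bicomm_of_central fun y => (scalar_commute c (fun _ => mul_comm _ _) y).symm.eq⟩)
    (isUnit_bicomm (by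
      have : (scalar (Fin n) c - σ (scalar _ c)) = scalar _ (c - c ^ q) := by
        rw [map_sub]; congr 1; exact diagonal_map (map_zero _)
      change IsUnit (scalar (Fin n) c - σ (scalar _ c))
      exact this ▸ (IsUnit.mk0 _ (sub_ne_zero.2 hc.symm)).map _))
    (t := ⟨h.1, subset_bicomm (.inl rfl)⟩) (Subtype.ext (by change h.1 * σ h.1 = 1; simp [e1]))
  obtain ⟨v, hv⟩ := hu.map (bicomm S).subtype
  refine ⟨v, Units.ext ?_, fun y hy => Units.ext ?_⟩
  · change σ v * h = v
    rw [hv]; exact congrArg Subtype.val k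
  · change y.1 * v = v * y
    rw [hv]
    refine u.2 _ ?_
    rintro _ (rfl | rfl)
    exacts [congrArg Units.val hy.symm.eq, congrArg Units.val hy.inv_right.symm.eq]

omit hK in
theorem cmp_of [Finite A] {m : ℕ} (hA : Nat.card A = 2 ^ m) {r s : ℤ} (h : (2 : ℤ) ^ m ∣ r - s) (a : A) : a ^ s = a ^ r :=
  zpow_eq_zpow_iff_modEq.2 ((Int.modEq_iff_dvd.2 h).of_dvd (by exact_mod_cast hA ▸ orderOf_dvd_natCard a))

variable [Finite A] [IsCyclic A] (o : Odd q) (hA : Nat.card A = 2 ^ padicValNat 2 (q ^ 2 - 1)) {z : A} (hz : orderOf z = 2)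
  {r : ℤ}
include o hA hz

theorem exists_lin (hr : (2 : ℤ) ^ padicValNat 2 (q ^ 2 - 1) ∣ r - q) : ∃ D : Dt (Fin n) (zpowGroupHom r) z K,
    ∀ g, g ∈ D.Fx ↔ ∀ i j, g i j ^ q = g i j := by
  obtain ⟨χ, h⟩ := exists_chi hK hA
  exact ⟨{
    θ := GeneralLinearGroup.map (conj hK : K →+* K)
    τ := Units.map (conj hK : K →* K)
    χ := χ
    θθ := fun g => Units.ext (Matrix.ext fun i j => conj_conj hK _)
    θμ := fun x => Units.ext (Matrix.ext fun i j => (apply_ite (conj hK) _ _ _).trans (by rw [map_zero]; rfl))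
    det := GeneralLinearGroup.map_det _
    h90 := h90_lin hK
    inj := h
    cmp := fun a => by
      rw [zpowGroupHom_apply, ← cmp_of hA hr, zpow_natCast, map_pow]; exact Units.ext rfl
    odd := odd_index hK o h hA
    hz := eq_neg_one h hz
    two := two_ne hK o }, fun g => Units.ext_iff.trans Matrix.ext_iff.symm⟩

theorem exists_uni (hr : (2 : ℤ) ^ padicValNat 2 (q ^ 2 - 1) ∣ r - -q) : ∃ D : Dt (Fin n) (zpowGroupHom r) z K,
    ∀ g, g ∈ D.Fx ↔ ct hK g.1 * g.1 = 1 := by
  obtain ⟨χ, h⟩ := exists_chi hK hA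
  let θ : GL (Fin n) K →* GL (Fin n) K := MonoidHom.mk' (fun g => ⟨ct hK g⁻¹.1, ct hK g.1,
    by rw [← ct_mul, Units.mul_inv, ct_one], by rw [← ct_mul, Units.inv_mul, ct_one]⟩) fun a b => Units.ext (by
      change ct hK (a * b)⁻¹.1 = ct hK a⁻¹.1 * ct hK b⁻¹.1
      rw [_root_.mul_inv_rev, Units.val_mul, ct_mul])
  have k : ∀ g u, θ u * g = u ↔ ct hK u.1 * u.1 = g.1 := fun g u => by
    rw [← eq_inv_mul_iff_mul_eq, eq_comm, Units.ext_iff]; rfl
  exact ⟨{
    θ := θ
    τ := zpowGroupHom (-q)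
    χ := χ
    θθ := fun g => Units.ext (ct_ct hK _)
    θμ := fun x => Units.ext (Matrix.ext fun i j => by
      change ((mu x)⁻¹.1 j i) ^ q = _
      rw [← map_inv, coe_mu, coe_mu, mm_apply, mm_apply, apply_ite (· ^ q), zero_pow_q hK]
      by_cases e : i = x.right j
      · subst e; simp [mp]; rfl
      · rw [if_neg fun e' => e (by simp [e'])]; exact (if_neg e).symm)
    det := fun g => Units.ext (by
      change (ct hK g⁻¹.1).det = _
      rw [det_ct, ← GeneralLinearGroup.val_det_apply, map_inv]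
      simp)
    h90 := fun g e => by
      obtain ⟨c, ⟨c, rfl⟩, l, -, m⟩ := exists_ct_mul_self hK g.isUnit
        (congrArg (fun x : GL (Fin n) K => x⁻¹.1) (eq_inv_of_mul_eq_one_left e))
      exact ⟨c, (k _ _).2 l, fun y hy => Units.ext (m y (congrArg Units.val hy.eq))⟩
    inj := h
    cmp := fun a => by rw [zpowGroupHom_apply, zpowGroupHom_apply, ← cmp_of hA hr, map_zpow]
    odd := odd_index hK o h hA
    hz := eq_neg_one h hz
    two := two_ne hK o }, fun g => (show θ g = g ↔ θ g * 1 = g by rw [mul_one]).trans (k 1 g)⟩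

end CL.Ln
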