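/- The 2-fusion systems of `PSL_n(q)` and `PSU_n(q)` depend only on the 2-parts of `q - 1` and `q + 1`. -/
import Cfsg.Agent.FUS.Ln.Inst
import Cfsg.Agent.CLAS.UniGen

set_option autoImplicit false

namespace CL.Ln

open Matrix Subgroup CL.SqField CL.SpU

variable {F F' : Type*} [Field F] [Fintype F] [Field F'] [Fintype F'] {q q' n : ℕ}

theorem exists_ext (hF : Fintype.card F = q) : ∃ (K : Type) (_ : Field K) (_ : Fintype K) (e : F →+* K),
    Fintype.card K = q ^ 2 ∧ ∀ x, x ^ q = x ↔ x ∈ e.range := by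
  obtain ⟨p, _, k, hp, e⟩ := FiniteField.card' F
  have := Fact.mk hp
  let K := GaloisField p (k * 2)
  have := Fintype.ofFinite K
  have hK : Fintype.card K = q ^ 2 := by
    rw [← Nat.card_eq_fintype_card, GaloisField.card p _ (by simp), ← hF, e, pow_mul]
  have := Fintype.ofFinite (fixedSubfield hK)
  let σ := FiniteField.ringEquivOfCardEq (K := F) (K' := fixedSubfield hK)
    (by rw [hF, ← Nat.card_eq_fintype_card, card_fixedSubfield])
  exact ⟨K, _, _, (fixedSubfield hK).subtype.comp σ.toRingHom, hK, fun x =>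
    ⟨fun h => ⟨σ.symm ⟨x, h⟩, by simp⟩, by rintro ⟨y, rfl⟩; exact (σ y).2⟩⟩

variable {A : Type*} [CommGroup A] {κ : A →* A} {z : A}

/-- `N` is the group of the fixed points of determinant one -/
def Md (κ : A →* A) (z : A) (n : ℕ) (K : Type*) [Field K] (N : Type*) [Group N] : Prop :=
  ∃ (D : Dt (Fin n) κ z K) (j : N →* GL (Fin n) K), Function.Injective j ∧
    j.range = D.Fx ⊓ GeneralLinearGroup.det.ker ∧ ∀ x, x ∈ center N ↔ j x ∈ center (GL (Fin n) K)

theorem Md.eqv {K K' N N' : Type*} [Field K] [Field K'] [Finite K] [Finite K'] [Group N] [Group N'] (hn : 2 ≤ n)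
    (h : Md κ z n K N) (h' : Md κ z n K' N') : Eqv (N ⧸ center N) (N' ⧸ center N') :=
  have : Nonempty (Fin n) := ⟨⟨0, by omega⟩⟩
  let ⟨D, _, a, b, c⟩ := h; let ⟨D', _, a', b', c'⟩ := h'; eqv_of D D' a a' b b' c c'

variable [Finite A] [IsCyclic A] {r : ℤ}

theorem md_lin (hF : Fintype.card F = q) (o : Odd q) (hA : Nat.card A = 2 ^ padicValNat 2 (q ^ 2 - 1)) (hz : orderOf z = 2)
    (hr : (2 : ℤ) ^ padicValNat 2 (q ^ 2 - 1) ∣ r - q) : ∃ (K : Type) (_ : Field K) (_ : Finite K),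
    Md (zpowGroupHom r) z n K (SpecialLinearGroup (Fin n) F) := by
  obtain ⟨K, _, _, e, hK, he⟩ := exists_ext hF
  obtain ⟨D, hD⟩ := exists_lin (n := n) hK o hA hz hr
  have hi : Function.Injective (e.mapMatrix (m := Fin n)) := map_injective e.injective
  refine ⟨K, _, inferInstance, D, SpecialLinearGroup.toGL.comp (SpecialLinearGroup.map e),
    fun a b h => Subtype.ext (hi (congrArg Units.val h)), Subgroup.ext fun g => ⟨?_, fun ⟨h1, h2⟩ => ?_⟩, fun x => ?_⟩
  · rintro ⟨x, rfl⟩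
    exact ⟨(hD _).2 fun i j => (he _).2 ⟨_, rfl⟩, Units.ext (SpecialLinearGroup.map e x).2⟩
  · choose M hM using fun i j => (he _).1 ((hD g).1 h1 i j)
    have k : e.mapMatrix (of M) = g := Matrix.ext hM
    exact ⟨⟨of M, e.injective (by rw [e.map_det, k, map_one]; exact congrArg Units.val h2)⟩, Units.ext k⟩
  · refine ⟨fun h => (Units.ext rfl : GeneralLinearGroup.map e (SpecialLinearGroup.toGL x) =
      SpecialLinearGroup.toGL.comp (SpecialLinearGroup.map e) x) ▸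
      mem_comap.1 (GeneralLinearGroup.map_center_le e ((SpecialLinearGroup.toGL_mem_center_iff x).2 h)), fun h => ?_⟩
    exact mem_center_iff.2 fun y => Subtype.ext (hi (congrArg Units.val
      ((map_mul _ _ _).trans ((mem_center_iff.1 h _).trans (map_mul _ _ _).symm))))

theorem md_uni (hn : 2 ≤ n) (hF : Fintype.card F = q ^ 2) (o : Odd q) (hA : Nat.card A = 2 ^ padicValNat 2 (q ^ 2 - 1))
    (hz : orderOf z = 2) (hr : (2 : ℤ) ^ padicValNat 2 (q ^ 2 - 1) ∣ r - -q) :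
    Md (zpowGroupHom r) z n F (Cfsg.SU n F q) := by
  obtain ⟨D, hD⟩ := exists_uni (n := n) hF o hA hz hr
  refine ⟨D, SpecialLinearGroup.toGL.comp (Cfsg.SU n F q).subtype,
    SpecialLinearGroup.toGL_injective.comp (subtype_injective _), Subgroup.ext fun g => ⟨?_, fun ⟨h1, h2⟩ => ?_⟩,
    fun x => ?_⟩
  · rintro ⟨x, rfl⟩
    exact ⟨(hD _).2 ((mem_SU_iff hF).1 x.2), Units.ext x.1.2⟩
  · exact ⟨mkSU hF g ((hD g).1 h1) (congrArg Units.val h2), Units.ext rfl⟩
  · rw [Uni.mem_center_SU_iff hF hn, GeneralLinearGroup.mem_center_iff_val_mem_range_scalar]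
    exact exists_congr fun c => by rw [scalar_apply, ← smul_one_eq_diagonal, eq_comm]; rfl

theorem exists_A (o : Odd q) (h : 1 < q) : ∃ (A : Type) (_ : CommGroup A) (_ : Finite A) (_ : IsCyclic A) (z : A),
    Nat.card A = 2 ^ padicValNat 2 (q ^ 2 - 1) ∧ orderOf z = 2 := by
  have : Fact (Nat.Prime 2) := ⟨Nat.prime_two⟩
  have c : Nat.card (Multiplicative (ZMod (2 ^ padicValNat 2 (q ^ 2 - 1)))) = 2 ^ padicValNat 2 (q ^ 2 - 1) := by simp
  obtain ⟨z, hz⟩ := exists_prime_orderOf_dvd_card' 2 (c ▸ dvd_pow_self 2 (by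
    have := val_cases o h
    rw [val_sq h]; omega))
  exact ⟨_, _, inferInstance, inferInstance, z, c, hz⟩

theorem eqv_LL (hn : 2 ≤ n) (hF : Fintype.card F = q) (hF' : Fintype.card F' = q') (o : Odd q) (o' : Odd q')
    (h : Mt q q') : Eqv (PL n F) (PL n F') := by
  have h1 : 1 < q := hF ▸ Fintype.one_lt_card
  obtain ⟨e, d⟩ := h.dvd o h1 (hF' ▸ Fintype.one_lt_card)
  obtain ⟨A, _, _, _, z, hA, hz⟩ := exists_A o h1
  obtain ⟨K, _, _, M⟩ := md_lin (n := n) (r := q) hF o hA hz (by simp)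
  obtain ⟨K', _, _, M'⟩ := md_lin (n := n) (r := q) hF' o' (e ▸ hA) hz (e ▸ d)
  exact M.eqv hn M'

theorem eqv_LU (hn : 2 ≤ n) (hF : Fintype.card F = q) (hF' : Fintype.card F' = q' ^ 2) (o : Odd q) (o' : Odd q')
    (h : Ms q q') : Eqv (PL n F) (Cfsg.PSU n F' q') := by
  have h1 : 1 < q := hF ▸ Fintype.one_lt_card
  obtain ⟨e, d⟩ := h.dvd o h1 (two_le hF')
  obtain ⟨A, _, _, _, z, hA, hz⟩ := exists_A o h1
  obtain ⟨K, _, _, M⟩ := md_lin (n := n) (r := q) hF o hA hz (by simp)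
  exact M.eqv hn (md_uni hn hF' o' (e ▸ hA) hz (e ▸ d))

end CL.Ln
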