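/- A group `2³ : 7`: present in `A₈`, `2.A₈`, `M₂₂`, `M₂₃`, absent from `PSL₄(F)` in odd characteristic. -/
import Cfsg.Agent.FUS.Ln.Ar
import Cfsg.Agent.S1663
import Cfsg.Agent.S1664
import Cfsg.Prelude.Def_SporadicB
import Cfsg.Agent.FUS.PcMathieu

set_option autoImplicit false
set_option maxHeartbeats 200000

namespace CL.Ln

open Subgroup

variable {G H : Type*} [Group G] [Group H]

/-- `x` acts on `⟨a, b, c⟩ ≅ 2³` as the companion matrix of `t³ + t + 1` -/
def E87 (G : Type*) [Group G] : Prop := ∃ a b c x : G, a ≠ 1 ∧ a * a = 1 ∧ a * b = b * a ∧ a * c = c * a ∧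
  x * a * x⁻¹ = b ∧ x * b * x⁻¹ = c ∧ x * c * x⁻¹ = a * b

theorem E87.map (h : E87 G) (f : G →* H) (hf : Function.Injective f) : E87 H := by
  obtain ⟨a, b, c, x, h1, h2, h3, h4, h5, h6, h7⟩ := h
  refine ⟨f a, f b, f c, f x, fun e => h1 ((map_eq_one_iff f hf).1 e), ?_, ?_, ?_, ?_, ?_, ?_⟩ <;>
    simp only [← map_inv, ← map_mul, *, map_one]

theorem E87.of_eqv [Finite G] (h : E87 G) (e : Eqv G H) : E87 H := by
  obtain ⟨a, b, c, x, h1, h2, h3, h4, h5, h6, h7⟩ := h
  have b2 : b * b = 1 := by rw [← h5, conj_mul, h2, mul_one, mul_inv_cancel]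
  have c2 : c * c = 1 := by rw [← h6, conj_mul, b2, mul_one, mul_inv_cancel]
  have bc : b * c = c * b := by
    have := congrArg (fun u => x * u * x⁻¹) h3
    simpa only [← conj_mul, h5, h6] using this
  have hc : ∀ u ∈ ({a, b, c} : Set G), ∀ v ∈ ({a, b, c} : Set G), u * v = v * u := by
    rintro u (rfl | rfl | rfl) v (rfl | rfl | rfl)
    exacts [rfl, h3, h4, h3.symm, rfl, bc, h4.symm, bc.symm, rfl]
  have hm := isMulCommutative_closure hc
  have h2' : ∀ y ∈ closure ({a, b, c} : Set G), y ^ 2 = 1 := fun y hy => by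
    induction hy using closure_induction with
    | mem u hu => rcases hu with rfl | rfl | rfl <;> rwa [pow_two]
    | one => simp
    | mul u v hu hv k1 k2 =>
      have : Commute u v := congrArg Subtype.val (hm.is_comm.comm ⟨u, hu⟩ ⟨v, hv⟩)
      rw [this.mul_pow, k1, k2, one_mul]
    | inv u _ k => rw [inv_pow, k, inv_one]
  obtain ⟨S⟩ : Nonempty (Sylow 2 G) := inferInstance
  obtain ⟨f, -, hf, hR⟩ := e.elim (emb_subtype S)
  obtain ⟨g, hg⟩ := (emb_subtype S).exists_conj (Q := closure ({a, b, c} : Set G))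
    fun y => ⟨1, Subtype.ext (h2' y y.2)⟩
  obtain ⟨s, hs⟩ := hg a (subset_closure (by simp))
  obtain ⟨t, ht⟩ := hg b (subset_closure (by simp))
  obtain ⟨u, hu⟩ := hg c (subset_closure (by simp))
  have i := (S : Subgroup G).subtype_injective
  obtain ⟨y, hy⟩ := (hR {(s, t), (t, u), (u, s * t)}).1 ⟨g * x * g⁻¹, by
    rintro p (rfl | rfl | rfl) <;> simp only [map_mul, hs, ht, hu, conj_mul] <;> rw [conj_inv, conj_mul] <;>
      simp only [h5, h6, h7]⟩
  refine ⟨f s, f t, f u, y, fun e => h1 ?_, ?_, ?_, ?_, (hy (s, t) (by simp)).symm, (hy (t, u) (by simp)).symm,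
    (hy (u, s * t) (by simp)).symm.trans (map_mul f s t)⟩
  · rw [(map_eq_one_iff f hf.1).1 e, map_one] at hs
    exact conj_eq_one_iff.1 hs.symm
  · rw [← map_mul, show s * s = 1 from i (by rw [map_mul, hs, conj_mul, h2, mul_one, mul_inv_cancel, map_one]), map_one]
  · rw [← map_mul, ← map_mul, show s * t = t * s from i (by simp only [map_mul, hs, ht, conj_mul, h3])]
  · rw [← map_mul, ← map_mul, show s * u = u * s from i (by simp only [map_mul, hs, hu, conj_mul, h4])]

theorem E87.lift_comm (π : G →* H) (s : Function.Surjective π) (c : π.ker ≤ center G) (h : E87 H) :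
    ∃ A B C X z : G, π A ≠ 1 ∧ π (A * A) = 1 ∧ A * B = B * A ∧ A * C = C * A ∧ π z = 1 ∧
      X * A * X⁻¹ = B ∧ X * B * X⁻¹ = C ∧ X * C * X⁻¹ = A * B * z := by
  obtain ⟨a, b, d, x, h1, h2, h3, h4, h5, h6, h7⟩ := h
  obtain ⟨A, rfl⟩ := s a
  obtain ⟨X, rfl⟩ := s x
  obtain ⟨B, hB⟩ : ∃ B, X * A * X⁻¹ = B := ⟨_, rfl⟩
  obtain ⟨C, hC⟩ : ∃ C, X * B * X⁻¹ = C := ⟨_, rfl⟩
  obtain rfl : π B = b := by rw [← hB, ← h5, map_mul, map_mul, map_inv]
  obtain rfl : π C = d := by rw [← hC, ← h6, map_mul, map_mul, map_inv]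
  have ex : ∀ {u v : G}, π u = π v → ∃ w, π w = 1 ∧ (∀ g, g * w = w * g) ∧ u = v * w := fun {u v} e =>
    have : π (v⁻¹ * u) = 1 := by rw [map_mul, map_inv, e, inv_mul_cancel]
    ⟨_, this, mem_center_iff.1 (c this), (mul_inv_cancel_left v u).symm⟩
  obtain ⟨z, z1, z2, hz⟩ := ex (u := X * C * X⁻¹) (v := A * B) (by simp only [map_mul, map_inv, h7])
  obtain ⟨α, -, a2, ha⟩ := ex (u := A * B) (v := B * A) (by simp only [map_mul, h3])
  obtain ⟨γ, -, g2, hg⟩ := ex (u := A * C) (v := C * A) (by simp only [map_mul, h4])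
  have mv : ∀ {w : G}, (∀ g, g * w = w * g) → ∀ u v, u * w * v = u * v * w := fun k u v => by
    rw [mul_assoc, ← k, mul_assoc]
  have cj : ∀ {u v w : G}, (∀ g, g * w = w * g) → u = v * w → X * u * X⁻¹ = X * v * X⁻¹ * w := fun {u v w} k e => by
    rw [e, ← mul_assoc, mv k]
  have k1 := cj a2 ha
  rw [← conj_mul, ← conj_mul, hB, hC] at k1
  have k2 := cj g2 hg
  rw [← conj_mul, ← conj_mul, hB, hz, mv z2, mv z2, ← mul_assoc, mul_left_inj, ← mul_assoc, ← mv g2 (A * B) B] at k2
  have k3 := cj a2 k1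
  rw [← conj_mul, ← conj_mul, hC, hz, mv z2 (A * B) C, mv z2 _ α, ← mul_assoc, mul_left_inj] at k3
  have e1 : α * γ = 1 := by
    rw [mul_left_inj, ha, mul_assoc (B * A)] at k2
    exact mul_eq_left.1 k2.symm
  have e2 : γ * α * α = 1 := by
    rw [mul_assoc A, k1, ← mul_assoc A, ← mul_assoc A, hg, mv g2 (C * A) B, ← mul_assoc, mul_assoc _ α α,
      mul_assoc _ γ, ← mul_assoc γ] at k3
    exact mul_eq_left.1 k3.symm
  have e3 : α = 1 := by rwa [← g2, e1, one_mul] at e2
  rw [e3, one_mul] at e1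
  rw [e3, mul_one] at ha
  rw [e1, mul_one] at hg
  exact ⟨A, B, C, X, z, h1, by rw [map_mul, h2], ha, hg, z1, hB, hC, hz⟩

theorem E87.lift (π : G →* H) (s : Function.Surjective π) (c : π.ker ≤ center G) (h : E87 H) : E87 G := by
  obtain ⟨A, B, C, X, z, h1, h2, h3, h4, h5, h6, h7, h8⟩ := h.lift_comm π s c
  have z2 := mem_center_iff.1 (c h5)
  have s2 := mem_center_iff.1 (c h2)
  have fx : X * (A * A) * X⁻¹ = A * A := by rw [s2 X, mul_inv_cancel_right]
  have b2 : B * B = A * A := by rw [← h6, conj_mul, fx]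
  have c2 : C * C = A * A := by rw [← h7, conj_mul, b2, fx]
  have d2 : A * B * z * (A * B * z) = A * A := by rw [← h8, conj_mul, c2, fx]
  have mm : ∀ u v : G, u * z * (v * z) = u * v * (z * z) := fun u v => (Commute.symm (z2 v)).mul_mul_mul_comm u z
  have cz : ∀ u : G, X * (u * z) * X⁻¹ = X * u * X⁻¹ * z := fun u => by
    rw [← mul_assoc, mul_assoc _ z, ← z2, ← mul_assoc]
  rw [mm, (Commute.symm h3).mul_mul_mul_comm, b2, mul_assoc, mul_eq_left] at d2
  refine ⟨A * z, B * z, C * z, X, fun e => h1 ?_, by rw [mm, d2], by rw [mm, mm, h3], by rw [mm, mm, h4],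
    by rw [cz, h6], by rw [cz, h7], by rw [cz, h8, mm, mul_assoc]⟩
  simpa [h5] using congrArg π e

namespace E8

variable {F V : Type*} [Field F] [AddCommGroup V] [Module F V]

/-- common eigenvectors with different characters are independent -/
theorem li {ι κ : Type*} (T : κ → V →ₗ[F] V) (v : ι → V) (e : ι → κ → F) (h0 : ∀ i, v i ≠ 0)
    (hT : ∀ i k, T k (v i) = e i k • v i) (hd : ∀ i j, i ≠ j → ∃ k, e i k ≠ e j k) : LinearIndependent F v := by
  classical
  refine linearIndependent_iff'.2 fun s => ?_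
  induction s using Finset.induction_on with
  | empty => simp
  | insert j s hj ih =>
    intro g hg
    have k1 : ∀ i ∈ s, g i = 0 := fun i hi => by
      obtain ⟨k, hk⟩ := hd i j fun e => hj (e ▸ hi)
      have h1 := congrArg (fun w => T k w - e j k • w) hg
      simp only [map_sum, map_smul, hT, Finset.smul_sum, ← Finset.sum_sub_distrib, smul_smul, ← sub_smul,
        map_zero, smul_zero, sub_zero] at h1
      rw [Finset.sum_insert hj, mul_comm, sub_self, zero_smul, zero_add] at h1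
      have := ih _ h1 i hi
      rw [mul_comm (e j k), ← mul_sub] at this
      exact (mul_eq_zero.1 this).resolve_right (sub_ne_zero.2 hk)
    intro i hi
    rcases Finset.mem_insert.1 hi with rfl | hi
    · rw [Finset.sum_insert hj, Finset.sum_eq_zero (fun l hl => by rw [k1 l hl, zero_smul]), add_zero] at hg
      exact (smul_eq_zero.1 hg).resolve_right (h0 _)
    · exact k1 i hi

/-- a sign -/
def sg (F : Type*) [Field F] (b : Bool) : F := if b then -1 else 1

theorem sg_xor (a b : Bool) : sg F (xor a b) = sg F a * sg F b := by cases a <;> cases b <;> simp [sg]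

theorem sg_inj (h2 : (2 : F) ≠ 0) {a b : Bool} (h : sg F a = sg F b) : a = b := by
  have : (-1 : F) ≠ 1 := fun e => h2 (by linear_combination -e)
  cases a <;> cases b <;> simp_all [sg, eq_comm]

/-- the map on signs -/
def nx (p : Fin 3 → Bool) : Fin 3 → Bool := ![xor (p 0) (p 2), p 0, p 1]

theorem exists_sg (B : V ≃ₗ[F] V) (b2 : B * B = 1) {v : V} (h : v ≠ 0) :
    ∃ w, w ≠ 0 ∧ (w = v ∨ w = v + B v) ∧ ∃ b, B w = sg F b • w := by
  by_cases e : v + B v = 0
  · exact ⟨v, h, .inl rfl, true, by simpa [sg] using eq_neg_of_add_eq_zero_right e⟩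
  · refine ⟨_, e, .inr rfl, false, ?_⟩
    rw [map_add, ← LinearEquiv.mul_apply, b2, add_comm]; simp [sg]

theorem not_lin (h2 : (2 : F) ≠ 0) [Module.Finite F V] (h4 : Module.finrank F V ≤ 4) : ¬ E87 (V ≃ₗ[F] V) := by
  rintro ⟨a, b, c, x, h1, a2, h3, h4', h5, h6, h7⟩
  have b2 : b * b = 1 := by rw [← h5, conj_mul, a2, mul_one, mul_inv_cancel]
  have c2 : c * c = 1 := by rw [← h6, conj_mul, b2, mul_one, mul_inv_cancel]
  have bc : b * c = c * b := by
    have := congrArg (fun u => x * u * x⁻¹) h3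
    simpa only [← conj_mul, h5, h6] using this
  have keep : ∀ {S T : V ≃ₗ[F] V} {v w : V} {r : F}, S * T = T * S → S v = r • v → (w = v ∨ w = v + T v) →
      S w = r • w := by
    rintro S T v w r k e (rfl | rfl)
    · exact e
    · rw [map_add, ← LinearEquiv.mul_apply, k, LinearEquiv.mul_apply, e, map_smul, smul_add]
  obtain ⟨u, hu⟩ : ∃ u, u - a u ≠ 0 := by
    by_contra! k
    exact h1 (LinearEquiv.ext fun u => (sub_eq_zero.1 (k u)).symm)
  have ha : a (u - a u) = sg F true • (u - a u) := by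
    rw [map_sub, ← LinearEquiv.mul_apply, a2]; simp [sg]
  obtain ⟨v, v0, hv, β, hb⟩ := exists_sg b b2 hu
  obtain ⟨w, w0, hw, γ, hc⟩ := exists_sg c c2 v0
  let T : Fin 3 → V ≃ₗ[F] V := ![a, b, c]
  have step : ∀ (y : V) (p : Fin 3 → Bool), (∀ k, T k y = sg F (p k) • y) → ∀ k, T k (x y) = sg F (nx p k) • x y := by
    intro y p hp
    have k1 : b (x y) = sg F (p 0) • x y := by
      rw [← LinearEquiv.mul_apply, ← h5, inv_mul_cancel_right, LinearEquiv.mul_apply, ← map_smul]
      exact congrArg x (hp 0)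
    have k2 : c (x y) = sg F (p 1) • x y := by
      rw [← LinearEquiv.mul_apply, ← h6, inv_mul_cancel_right, LinearEquiv.mul_apply, ← map_smul]
      exact congrArg x (hp 1)
    have k3 : (a * b) (x y) = sg F (p 2) • x y := by
      rw [← LinearEquiv.mul_apply, ← h7, inv_mul_cancel_right, LinearEquiv.mul_apply, ← map_smul]
      exact congrArg x (hp 2)
    have k4 : a (x y) = sg F (xor (p 0) (p 2)) • x y := by
      rw [sg_xor, mul_comm, ← smul_smul, ← k1, ← map_smul, ← k3, ← LinearEquiv.mul_apply b, h3, ← mul_assoc, b2, one_mul]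
    intro k
    fin_cases k
    exacts [k4, k1, k2]
  have all : ∀ n k, T k (x^[n] w) = sg F (nx^[n] ![true, β, γ] k) • x^[n] w := fun n => by
    induction n with
    | zero =>
      intro k
      fin_cases k
      exacts [keep h4' (keep h3 ha hv) hw, keep bc hb hw, hc]
    | succ n ih => rw [Function.iterate_succ_apply', Function.iterate_succ_apply']; exact step _ _ ih
  have := (li (fun k => (T k).toLinearMap) (fun i : Fin 5 => x^[i] w) (fun i k => sg F (nx^[i] ![true, β, γ] k))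
    (fun i e => w0 (x.injective.iterate i (e.trans (Function.iterate_fixed (map_zero x) i).symm)))
    (fun i k => all i k) (fun i j ne => ?_)).fintype_card_le_finrank
  · rw [Fintype.card_fin] at this
    omega
  · obtain ⟨k, hk⟩ := (by decide : ∀ β γ : Bool, ∀ i j : Fin 5, i ≠ j →
      ∃ k, nx^[i] ![true, β, γ] k ≠ nx^[j] ![true, β, γ] k) β γ i j ne
    exact ⟨k, fun e => hk (sg_inj h2 e)⟩

theorem alt8 : E87 (alternatingGroup (Fin 8)) :=
  ⟨⟨⟨![1, 0, 3, 2, 5, 4, 7, 6], ![1, 0, 3, 2, 5, 4, 7, 6], by decide, by decide⟩, Equiv.Perm.mem_alternatingGroup.2 (by decide +kernel)⟩,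
    ⟨⟨![2, 3, 0, 1, 6, 7, 4, 5], ![2, 3, 0, 1, 6, 7, 4, 5], by decide, by decide⟩, Equiv.Perm.mem_alternatingGroup.2 (by decide +kernel)⟩,
    ⟨⟨![4, 5, 6, 7, 0, 1, 2, 3], ![4, 5, 6, 7, 0, 1, 2, 3], by decide, by decide⟩, Equiv.Perm.mem_alternatingGroup.2 (by decide +kernel)⟩,
    ⟨⟨![0, 2, 4, 6, 3, 1, 7, 5], ![0, 5, 1, 4, 2, 7, 3, 6], by decide, by decide⟩, Equiv.Perm.mem_alternatingGroup.2 (by decide +kernel)⟩,
    by decide +kernel, by decide +kernel, by decide +kernel, by decide +kernel, by decide +kernel, by decide +kernel,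
    by decide +kernel⟩

open CL.K CL.Pc CL.Golay CL.MathMdl CL.CG in
theorem m22 : E87 Cfsg.Spor.M22 := by
  have C := isCode24 Cfsg.Spor.M22
  have ha := mem_of_okc (fun _ => in22) 984473033808279762481138649031412160 (by decide +kernel)
  have hb := mem_of_okc (fun _ => in22) 966644557505542198614794556855141728 (by decide +kernel)
  have hc := mem_of_okc (fun _ => in22) 984797763459410051753560441210029344 (by decide +kernel)
  have hx := mem_of_okc (fun _ => in22) 963911430455955118476321090351436224 (by decide +kernel)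
  generalize (fun g : Cfsg.Spor.M22 => E.code 5 (g : Equiv.Perm Cfsg.GolayPt)) = φ at C ha hb hc hx
  obtain ⟨a, -, ha⟩ := ha
  obtain ⟨b, -, hb⟩ := hb
  obtain ⟨c, -, hc⟩ := hc
  obtain ⟨x, -, hx⟩ := hx
  refine ⟨a, b, c, x, fun h => ?_, C.inj ?_, C.inj ?_, C.inj ?_, mul_inv_eq_iff_eq_mul.2 (C.inj ?_),
    mul_inv_eq_iff_eq_mul.2 (C.inj ?_), mul_inv_eq_iff_eq_mul.2 (C.inj ?_)⟩
  · rw [h, C.map_one] at ha; exact absurd ha (by decide +kernel)
  · rw [C.map_one, ← C.map_mul, ha]; decide +kernel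
  all_goals simp only [← C.map_mul, ha, hb, hc, hx]; decide +kernel

end E8

theorem not_e87 {F : Type*} [Field F] (h2 : (2 : F) ≠ 0) : ¬ E87 (PL 4 F) := fun h =>
  E8.not_lin h2 (by simp) ((h.lift (QuotientGroup.mk' _) (QuotientGroup.mk'_surjective _)
    (QuotientGroup.ker_mk' _).le).map _ Matrix.SpecialLinearGroup.toLin'_injective)

theorem e87_alt {n : ℕ} (hn : 8 ≤ n) : E87 (alternatingGroup (Fin n)) := by
  let f := Equiv.Perm.extendDomainHom (Fin.castLEEmb hn).toEquivRange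
  refine E8.alt8.map ((f.comp (alternatingGroup (Fin 8)).subtype).codRestrict (alternatingGroup (Fin n)) fun g =>
    Equiv.Perm.mem_alternatingGroup.2 ((Equiv.Perm.sign_extendDomain _ _).trans g.2)) fun u v e => ?_
  exact Subtype.ext (Equiv.Perm.extendDomainHom_injective _ (congrArg Subtype.val e))

theorem e87_cover {n : ℕ} (hn : 8 ≤ n) (h : Cfsg.IsNonsplitDoubleCover G (alternatingGroup (Fin n))) : E87 G :=
  let ⟨e⟩ := h.2.1
  ((e87_alt hn).map e.symm.toMonoidHom e.symm.injective).lift (QuotientGroup.mk' _) (QuotientGroup.mk'_surjective _)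
    (QuotientGroup.ker_mk' _).le

theorem e87_M22 [Finite G] (h : Cfsg.IsM22 G) : E87 G :=
  let ⟨e⟩ := Cfsg.Agent.S1663.result h
  E8.m22.map e.symm.toMonoidHom e.symm.injective

theorem e87_M23 [Finite G] (h : Cfsg.IsM23 G) : E87 G :=
  let ⟨e⟩ := Cfsg.Agent.S1664.result h
  (E8.m22.map (inclusion inf_le_left) (inclusion_injective _)).map e.symm.toMonoidHom e.symm.injective

end CL.Ln
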